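import Groth.Agent.H98.GrLD.Exact
import Groth.Agent.H98.Ver.MPair

set_option autoImplicit false
set_option linter.unusedSectionVars false
set_option linter.style.haveILetI false
universe u

/-!
# A graded Matlis pairing identifies `C` with the graded dual of `H`
-/

namespace Groth.Agent.H98.GrLD

open DirectSum Groth.Agent.H98.GrStar Groth.Agent.H98.Ver

variable {R : Type u} [CommRing R] {𝒜 : ℤ → AddSubgroup R} [GradedRing 𝒜]
variable {H : Type u} [AddCommGroup H] [Module R H] {𝓗 : ℤ → AddSubgroup H}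
  [DirectSum.Decomposition 𝓗] [SetLike.GradedSMul 𝒜 𝓗]
variable {C : Type u} [AddCommGroup C] [Module R C] {𝒞 : ℤ → AddSubgroup C}
  [DirectSum.Decomposition 𝒞] [SetLike.GradedSMul 𝒜 𝒞]
variable {P : H →+ C →+ R} (hP : MPair 𝒜 𝓗 𝒞 P)

/-- the functional `P(·, c)` -/
def pairFun (c : C) : H →ₗ[GrLC.deg0 𝒜] GrLC.deg0 𝒜 where
  toFun h := ⟨P h c, hP.val0 h c⟩
  map_add' h h' := Subtype.ext (by
    change P (h + h') c = P h c + P h' c
    rw [map_add, AddMonoidHom.add_apply])
  map_smul' a h := Subtype.ext (by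
    change P ((a : R) • h) c = (a : R) * P h c
    exact hP.lin0 _ a.2 h c)

theorem pairFun_apply (c : C) (h : H) : ((pairFun hP c h : GrLC.deg0 𝒜) : R) = P h c := rfl

theorem pairFun_mem (c : C) : pairFun hP c ∈ gdSub 𝒜 𝓗 := by
  classical
  refine ⟨(DirectSum.decompose 𝒞 c).support.image (fun j => -j), ?_⟩
  intro j hj h hh
  apply Subtype.ext
  rw [pairFun_apply]
  have hh' : h ∈ 𝓗 (-(-j)) := by rwa [neg_neg]
  rw [hP.apply_eq_decompose (-j) h hh' c]
  have h0 : DirectSum.decompose 𝒞 c (-j) = 0 := by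
    by_contra hne
    apply hj
    refine Finset.mem_image.mpr ⟨-j, ?_, neg_neg j⟩
    rw [DFinsupp.mem_support_iff]
    exact hne
  rw [h0]
  change P h 0 = 0
  rw [map_zero]

/-- the comparison map `C → GD(H)` -/
noncomputable def toGD : C →ₗ[R] GD 𝒜 𝓗 where
  toFun c := ⟨pairFun hP c, pairFun_mem hP c⟩
  map_add' c c' := GD.ext fun h => Subtype.ext (by
    change P h (c + c') = P h c + P h c'
    rw [map_add])
  map_smul' r c := GD.ext fun h => Subtype.ext (by
    change P h (r • c) = P (r • h) c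
    rw [hP.bal])

theorem toGD_ev (c : C) (h : H) : (((toGD hP c).ev h : GrLC.deg0 𝒜) : R) = P h c := rfl

theorem toGD_injective : Function.Injective (toGD hP) := by
  rw [injective_iff_map_eq_zero]
  intro c hc
  apply hP.eq_zero_of_forall
  intro i h _
  have := congrArg (fun l : GD 𝒜 𝓗 => ((l.ev h : GrLC.deg0 𝒜) : R)) hc
  exact this

theorem toGD_surjective (h0 : IsField (GrLC.deg0 𝒜))
    (hfin : ∀ j : ℤ, letI : Field (GrLC.deg0 𝒜) := h0.toField
      Module.Finite (GrLC.deg0 𝒜) (GrLC.comp 𝒜 𝒞 j)) :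
    Function.Surjective (toGD hP) := by
  classical
  intro l
  obtain ⟨F, hF⟩ := l.2
  let lam : H →+ R := AddMonoidHom.mk' (fun h => ((l.ev h : GrLC.deg0 𝒜) : R)) (fun h h' => by
    rw [GD.ev_map_add]
    rfl)
  have hlam : ∀ h, lam h = ((l.ev h : GrLC.deg0 𝒜) : R) := fun _ => rfl
  have hlam0 : ∀ h, lam h ∈ 𝒜 0 := fun h => (l.ev h).2
  have hlamlin : ∀ a ∈ 𝒜 0, ∀ h, lam (a • h) = a * lam h := by
    intro a ha h
    have := GD.ev_map_smul l ⟨a, ha⟩ h
    rw [hlam, hlam]
    exact congrArg (fun z : GrLC.deg0 𝒜 => (z : R)) this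
  have hrep := fun i : ℤ => hP.exists_repr h0 (-i) (hfin (-i)) lam hlam0 hlamlin
  choose cf hcf hcf' using hrep
  refine ⟨∑ i ∈ F, cf i, ?_⟩
  apply GD.ext
  intro x
  apply Subtype.ext
  rw [toGD_ev]
  induction x using DirectSum.Decomposition.inductionOn 𝓗 with
  | zero => rw [map_zero, AddMonoidHom.zero_apply, GD.ev_map_zero]; rfl
  | @homogeneous i₀ x =>
    rw [map_sum]
    by_cases hi : i₀ ∈ F
    · rw [Finset.sum_eq_single i₀]
      · rw [hcf' i₀ x (by rw [neg_neg]; exact x.2), hlam]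
      · intro i _ hne
        exact hP.deg i₀ (-i) (fun h => hne (by omega)) x x.2 _ (hcf i)
      · intro h
        exact absurd hi h
    · have hz : l.ev (x : H) = 0 := hF i₀ hi x x.2
      rw [Finset.sum_eq_zero, hz]
      · rfl
      · intro i hiF
        have hne : i ≠ i₀ := fun h => hi (h ▸ hiF)
        exact hP.deg i₀ (-i) (fun h => hne (by omega)) x x.2 _ (hcf i)
  | add x y hx hy =>
    rw [map_add, AddMonoidHom.add_apply, hx, hy, GD.ev_map_add]
    rfl

/-- **`C ≅ GD(H)`** for a graded Matlis pairing with finite-dimensional pieces of `C` -/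
noncomputable def gdEquiv (h0 : IsField (GrLC.deg0 𝒜))
    (hfin : ∀ j : ℤ, letI : Field (GrLC.deg0 𝒜) := h0.toField
      Module.Finite (GrLC.deg0 𝒜) (GrLC.comp 𝒜 𝒞 j)) : C ≃ₗ[R] GD 𝒜 𝓗 :=
  LinearEquiv.ofBijective (toGD hP) ⟨toGD_injective hP, toGD_surjective hP h0 hfin⟩

end Groth.Agent.H98.GrLD
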