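import Groth.Agent.H98.GrStar.Basic
import Groth.Prelude.Def_GrLC

set_option autoImplicit false
set_option linter.unusedSectionVars false
set_option linter.style.haveILetI false
universe u

/-!
# The graded dual of a graded module over a ℤ-graded ring with `R_0` a field

`GD 𝒜 𝓗`: the `R_0`-linear functionals `H → R_0` vanishing on all but finitely many pieces `H_j`,
an `R`-module through `(r • l)(h) = l(r • h)`.  Contravariant functoriality for homogeneous maps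
(`gdMap`) and exactness (`exists_factor`).
-/

namespace Groth.Agent.H98.GrLD

open DirectSum Groth.Agent.H98.GrStar

section Def

variable {R : Type u} [CommRing R] (𝒜 : ℤ → AddSubgroup R) [GradedRing 𝒜]
variable {H : Type u} [AddCommGroup H] [Module R H] (𝓗 : ℤ → AddSubgroup H)

/-- the finitely supported functionals -/
def gdSub : Submodule (GrLC.deg0 𝒜) (H →ₗ[GrLC.deg0 𝒜] GrLC.deg0 𝒜) where
  carrier := {l | ∃ F : Finset ℤ, ∀ j, j ∉ F → ∀ h ∈ 𝓗 j, l h = 0}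
  add_mem' := by
    classical
    rintro l l' ⟨F, hF⟩ ⟨F', hF'⟩
    refine ⟨F ∪ F', fun j hj h hh => ?_⟩
    rw [Finset.mem_union, not_or] at hj
    rw [LinearMap.add_apply, hF j hj.1 h hh, hF' j hj.2 h hh, add_zero]
  zero_mem' := ⟨∅, fun _ _ _ _ => rfl⟩
  smul_mem' := by
    rintro a l ⟨F, hF⟩
    refine ⟨F, fun j hj h hh => ?_⟩
    rw [LinearMap.smul_apply, hF j hj h hh, smul_zero]

/-- the graded dual, as a type -/
def GD : Type u := ↥(gdSub 𝒜 𝓗)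

noncomputable instance : AddCommGroup (GD 𝒜 𝓗) :=
  inferInstanceAs (AddCommGroup ↥(gdSub 𝒜 𝓗))

variable {𝒜 𝓗}

/-- evaluation -/
def GD.ev (l : GD 𝒜 𝓗) (h : H) : GrLC.deg0 𝒜 := l.1 h

theorem GD.ext {l l' : GD 𝒜 𝓗} (h : ∀ x, l.ev x = l'.ev x) : l = l' :=
  Subtype.ext (LinearMap.ext h)

@[simp] theorem GD.ev_add (l l' : GD 𝒜 𝓗) (h : H) : (l + l').ev h = l.ev h + l'.ev h := rfl

@[simp] theorem GD.ev_zero (h : H) : (0 : GD 𝒜 𝓗).ev h = 0 := rfl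

@[simp] theorem GD.ev_neg (l : GD 𝒜 𝓗) (h : H) : (-l).ev h = -l.ev h := rfl

@[simp] theorem GD.ev_sub (l l' : GD 𝒜 𝓗) (h : H) : (l - l').ev h = l.ev h - l'.ev h := rfl

theorem GD.ev_map_add (l : GD 𝒜 𝓗) (h h' : H) : l.ev (h + h') = l.ev h + l.ev h' :=
  l.1.map_add h h'

theorem GD.ev_map_zero (l : GD 𝒜 𝓗) : l.ev 0 = 0 := l.1.map_zero

theorem GD.ev_map_neg (l : GD 𝒜 𝓗) (h : H) : l.ev (-h) = -l.ev h := l.1.map_neg h

theorem GD.ev_map_sub (l : GD 𝒜 𝓗) (h h' : H) : l.ev (h - h') = l.ev h - l.ev h' :=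
  l.1.map_sub h h'

theorem GD.ev_map_sum {α : Type*} (l : GD 𝒜 𝓗) (s : Finset α) (f : α → H) :
    l.ev (∑ i ∈ s, f i) = ∑ i ∈ s, l.ev (f i) := map_sum l.1 f s

theorem GD.ev_map_smul (l : GD 𝒜 𝓗) (a : GrLC.deg0 𝒜) (h : H) : l.ev (a • h) = a * l.ev h :=
  l.1.map_smul a h

theorem GD.exists_support (l : GD 𝒜 𝓗) :
    ∃ F : Finset ℤ, ∀ j, j ∉ F → ∀ h ∈ 𝓗 j, l.ev h = 0 := l.2

end Def

section Module

variable {R : Type u} [CommRing R] {𝒜 : ℤ → AddSubgroup R} [GradedRing 𝒜]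
variable {H : Type u} [AddCommGroup H] [Module R H] {𝓗 : ℤ → AddSubgroup H}
  [SetLike.GradedSMul 𝒜 𝓗]

/-- precomposition with multiplication by `r` -/
def precomp (r : R) (l : H →ₗ[GrLC.deg0 𝒜] GrLC.deg0 𝒜) : H →ₗ[GrLC.deg0 𝒜] GrLC.deg0 𝒜 where
  toFun h := l (r • h)
  map_add' h h' := by rw [smul_add, map_add]
  map_smul' a h := by
    have : r • (a • h) = a • (r • h) := by
      change r • ((a : R) • h) = (a : R) • (r • h)
      rw [smul_comm]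
    rw [this, map_smul, RingHom.id_apply]

theorem precomp_apply (r : R) (l : H →ₗ[GrLC.deg0 𝒜] GrLC.deg0 𝒜) (h : H) :
    precomp r l h = l (r • h) := rfl

theorem precomp_mem (r : R) (l : GD 𝒜 𝓗) : precomp r l.1 ∈ gdSub 𝒜 𝓗 := by
  classical
  obtain ⟨F, hF⟩ := l.2
  refine ⟨(F ×ˢ (DirectSum.decompose 𝒜 r).support).image (fun p => p.1 - p.2), ?_⟩
  intro j hj h hh
  rw [precomp_apply]
  have hr : r • h = ∑ d ∈ (DirectSum.decompose 𝒜 r).support,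
      ((DirectSum.decompose 𝒜 r d : 𝒜 d) : R) • h := by
    conv_lhs => rw [← DirectSum.sum_support_decompose 𝒜 r]
    rw [Finset.sum_smul]
  rw [hr, map_sum]
  apply Finset.sum_eq_zero
  intro d hd
  apply hF (d + j)
  · intro hmem
    apply hj
    refine Finset.mem_image.mpr ⟨(d + j, d), Finset.mem_product.mpr ⟨hmem, hd⟩, ?_⟩
    change d + j - d = j
    ring
  · have := SetLike.GradedSMul.smul_mem (A := 𝒜) (B := 𝓗)
      (SetLike.coe_mem (DirectSum.decompose 𝒜 r d)) hh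
    rwa [vadd_eq_add] at this

instance : SMul R (GD 𝒜 𝓗) := ⟨fun r l => ⟨precomp r l.1, precomp_mem r l⟩⟩

@[simp] theorem GD.ev_smul (r : R) (l : GD 𝒜 𝓗) (h : H) : (r • l).ev h = l.ev (r • h) := rfl

noncomputable instance : Module R (GD 𝒜 𝓗) where
  one_smul l := GD.ext fun h => by rw [GD.ev_smul, one_smul]
  mul_smul r s l := GD.ext fun h => by
    rw [GD.ev_smul, GD.ev_smul, GD.ev_smul, ← mul_smul, mul_comm]
  smul_zero r := GD.ext fun h => by rw [GD.ev_smul, GD.ev_zero, GD.ev_zero]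
  smul_add r l l' := GD.ext fun h => by
    rw [GD.ev_smul, GD.ev_add, GD.ev_add, GD.ev_smul, GD.ev_smul]
  add_smul r s l := GD.ext fun h => by
    rw [GD.ev_smul, GD.ev_add, GD.ev_smul, GD.ev_smul, add_smul, GD.ev_map_add]
  zero_smul l := GD.ext fun h => by rw [GD.ev_smul, zero_smul, GD.ev_map_zero, GD.ev_zero]

end Module

section Map

variable {R : Type u} [CommRing R] {𝒜 : ℤ → AddSubgroup R} [GradedRing 𝒜]
variable {H₁ : Type u} [AddCommGroup H₁] [Module R H₁] {𝓗₁ : ℤ → AddSubgroup H₁}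
  [SetLike.GradedSMul 𝒜 𝓗₁]
variable {H₂ : Type u} [AddCommGroup H₂] [Module R H₂] {𝓗₂ : ℤ → AddSubgroup H₂}
  [SetLike.GradedSMul 𝒜 𝓗₂]
variable {H₃ : Type u} [AddCommGroup H₃] [Module R H₃] {𝓗₃ : ℤ → AddSubgroup H₃}
  [SetLike.GradedSMul 𝒜 𝓗₃]

/-- restriction of scalars of an `R`-linear map to `R_0` -/
def res0 (f : H₁ →ₗ[R] H₂) : H₁ →ₗ[GrLC.deg0 𝒜] H₂ where
  toFun := f
  map_add' := f.map_add
  map_smul' a h := by
    change f ((a : R) • h) = (a : R) • f h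
    rw [map_smul]

theorem res0_apply (f : H₁ →ₗ[R] H₂) (h : H₁) : res0 (𝒜 := 𝒜) f h = f h := rfl

/-- the dual of a homogeneous map -/
noncomputable def gdMap (f : H₁ →ₗ[R] H₂) (hf : GrLC.IsGrHom 𝓗₁ 𝓗₂ f) :
    GD 𝒜 𝓗₂ →ₗ[R] GD 𝒜 𝓗₁ where
  toFun l := ⟨l.1 ∘ₗ res0 f, by
    obtain ⟨F, hF⟩ := l.2
    exact ⟨F, fun j hj h hh => hF j hj (f h) (hf j h hh)⟩⟩
  map_add' l l' := GD.ext fun h => rfl
  map_smul' r l := GD.ext fun h => by
    change l.ev (r • f h) = l.ev (f (r • h))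
    rw [map_smul]

@[simp] theorem gdMap_ev (f : H₁ →ₗ[R] H₂) (hf : GrLC.IsGrHom 𝓗₁ 𝓗₂ f) (l : GD 𝒜 𝓗₂) (h : H₁) :
    (gdMap f hf l).ev h = l.ev (f h) := rfl

theorem gdMap_comp (f : H₁ →ₗ[R] H₂) (hf : GrLC.IsGrHom 𝓗₁ 𝓗₂ f) (g : H₂ →ₗ[R] H₃)
    (hg : GrLC.IsGrHom 𝓗₂ 𝓗₃ g) (l : GD 𝒜 𝓗₃) :
    gdMap f hf (gdMap g hg l) = gdMap (g ∘ₗ f) (fun j h hh => hg j _ (hf j h hh)) l :=
  GD.ext fun _ => rfl

theorem gdMap_id (l : GD 𝒜 𝓗₁) : gdMap (LinearMap.id : H₁ →ₗ[R] H₁) (fun _ _ h => h) l = l :=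
  GD.ext fun _ => rfl

/-- the dual of a surjective map is injective -/
theorem gdMap_injective (f : H₁ →ₗ[R] H₂) (hf : GrLC.IsGrHom 𝓗₁ 𝓗₂ f)
    (hs : Function.Surjective f) : Function.Injective (gdMap (𝒜 := 𝒜) f hf) := by
  intro l l' hll
  apply GD.ext
  intro y
  obtain ⟨x, rfl⟩ := hs y
  have := congrArg (fun m => m.ev x) hll
  exact this

/-- a homogeneous linear equivalence with homogeneous inverse induces an equivalence of duals -/
noncomputable def gdCongr (e : H₁ ≃ₗ[R] H₂) (he : GrLC.IsGrHom 𝓗₁ 𝓗₂ e.toLinearMap)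
    (he' : GrLC.IsGrHom 𝓗₂ 𝓗₁ e.symm.toLinearMap) : GD 𝒜 𝓗₂ ≃ₗ[R] GD 𝒜 𝓗₁ :=
  LinearEquiv.ofLinearMap (gdMap e.toLinearMap he) (gdMap e.symm.toLinearMap he')
    (LinearMap.ext fun l => GD.ext fun h => by
      change l.ev (e.symm (e h)) = l.ev h
      rw [LinearEquiv.symm_apply_apply])
    (LinearMap.ext fun l => GD.ext fun h => by
      change l.ev (e (e.symm h)) = l.ev h
      rw [LinearEquiv.apply_symm_apply])

end Map

end Groth.Agent.H98.GrLD
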