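import Groth.Agent.H98.GrLD.Dual
import Mathlib.LinearAlgebra.Isomorphisms
import Mathlib.LinearAlgebra.Basis.VectorSpace

set_option autoImplicit false
set_option linter.unusedSectionVars false
set_option linter.style.haveILetI false
universe u

/-!
# Exactness of the graded dual

If `R_0` is a field, a finitely supported functional on `H₂` vanishing on the kernel of a homogeneous
map `g : H₂ → H₃` factors through `g` by a finitely supported functional on `H₃`.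
-/

namespace Groth.Agent.H98.GrLD

open DirectSum Groth.Agent.H98.GrStar

section Proj

variable {R : Type u} [CommRing R] {𝒜 : ℤ → AddSubgroup R} [GradedRing 𝒜]
variable {H : Type u} [AddCommGroup H] [Module R H] (𝓗 : ℤ → AddSubgroup H)
  [DirectSum.Decomposition 𝓗] [SetLike.GradedSMul 𝒜 𝓗]

/-- the projection onto the pieces with degrees in `F` -/
noncomputable def projF (F : Finset ℤ) : H →ₗ[GrLC.deg0 𝒜] H where
  toFun x := ∑ j ∈ F, ((DirectSum.decompose 𝓗 x j : 𝓗 j) : H)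
  map_add' x y := by
    rw [← Finset.sum_add_distrib]
    refine Finset.sum_congr rfl fun j _ => ?_
    rw [DirectSum.decompose_add, DirectSum.add_apply, AddSubgroup.coe_add]
  map_smul' a x := by
    rw [RingHom.id_apply, Finset.smul_sum]
    refine Finset.sum_congr rfl fun j _ => ?_
    have h := decompose_smul_homog 𝒜 𝓗 (a.2 : (a : R) ∈ 𝒜 0) x j
    rw [zero_add] at h
    exact h

theorem projF_apply (F : Finset ℤ) (x : H) :
    projF (𝒜 := 𝒜) 𝓗 F x = ∑ j ∈ F, ((DirectSum.decompose 𝓗 x j : 𝓗 j) : H) := rfl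

theorem projF_of_mem (F : Finset ℤ) {j : ℤ} (hj : j ∈ F) {x : H} (hx : x ∈ 𝓗 j) :
    projF (𝒜 := 𝒜) 𝓗 F x = x := by
  classical
  rw [projF_apply, Finset.sum_eq_single j]
  · rw [DirectSum.decompose_of_mem_same 𝓗 hx]
  · intro i _ hij
    rw [DirectSum.decompose_of_mem_ne 𝓗 hx (Ne.symm hij)]
  · intro h
    exact absurd hj h

theorem projF_of_not_mem (F : Finset ℤ) {j : ℤ} (hj : j ∉ F) {x : H} (hx : x ∈ 𝓗 j) :
    projF (𝒜 := 𝒜) 𝓗 F x = 0 := by
  classical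
  rw [projF_apply]
  apply Finset.sum_eq_zero
  intro i hi
  have hij : j ≠ i := fun h => hj (h ▸ hi)
  rw [DirectSum.decompose_of_mem_ne 𝓗 hx hij]

/-- a functional supported in `F` does not see the other components -/
theorem ev_projF (l : GD 𝒜 𝓗) (F : Finset ℤ) (hF : ∀ j, j ∉ F → ∀ h ∈ 𝓗 j, l.ev h = 0) (x : H) :
    l.ev (projF (𝒜 := 𝒜) 𝓗 F x) = l.ev x := by
  classical
  induction x using DirectSum.Decomposition.inductionOn 𝓗 with
  | zero => rw [map_zero]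
  | @homogeneous j x =>
    by_cases hj : j ∈ F
    · rw [projF_of_mem 𝓗 F hj x.2]
    · rw [projF_of_not_mem 𝓗 F hj x.2, GD.ev_map_zero, hF j hj x x.2]
  | add x y hx hy => rw [map_add, GD.ev_map_add, GD.ev_map_add, hx, hy]

end Proj

section Factor

variable {R : Type u} [CommRing R] {𝒜 : ℤ → AddSubgroup R} [GradedRing 𝒜]
  (h0 : IsField (GrLC.deg0 𝒜))
variable {H₂ : Type u} [AddCommGroup H₂] [Module R H₂] {𝓗₂ : ℤ → AddSubgroup H₂}
  [DirectSum.Decomposition 𝓗₂] [SetLike.GradedSMul 𝒜 𝓗₂]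
variable {H₃ : Type u} [AddCommGroup H₃] [Module R H₃] {𝓗₃ : ℤ → AddSubgroup H₃}
  [DirectSum.Decomposition 𝓗₃] [SetLike.GradedSMul 𝒜 𝓗₃]

omit [SetLike.GradedSMul 𝒜 𝓗₂] [SetLike.GradedSMul 𝒜 𝓗₃] in
theorem projF_comm (g : H₂ →ₗ[R] H₃) (hg : GrLC.IsGrHom 𝓗₂ 𝓗₃ g) (F : Finset ℤ) (x : H₂)
    [SetLike.GradedSMul 𝒜 𝓗₂] [SetLike.GradedSMul 𝒜 𝓗₃] :
    projF (𝒜 := 𝒜) 𝓗₃ F (g x) = g (projF (𝒜 := 𝒜) 𝓗₂ F x) := by
  rw [projF_apply, projF_apply, map_sum]
  refine Finset.sum_congr rfl fun j _ => ?_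
  exact decompose_grHom 𝓗₂ 𝓗₃ g hg x j

include h0 in
/-- **exactness of the graded dual** -/
theorem exists_factor (g : H₂ →ₗ[R] H₃) (hg : GrLC.IsGrHom 𝓗₂ 𝓗₃ g) (l : GD 𝒜 𝓗₂)
    (hl : ∀ x, g x = 0 → l.ev x = 0) : ∃ ν : GD 𝒜 𝓗₃, gdMap g hg ν = l := by
  classical
  letI : Field (GrLC.deg0 𝒜) := h0.toField
  obtain ⟨F, hF⟩ := l.2
  let g' : H₂ →ₗ[GrLC.deg0 𝒜] H₃ := res0 g
  have hle : LinearMap.ker g' ≤ LinearMap.ker l.1 := fun x hx => hl x hx
  let ν₁ : LinearMap.range g' →ₗ[GrLC.deg0 𝒜] GrLC.deg0 𝒜 :=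
    ((LinearMap.ker g').liftQ l.1 hle) ∘ₗ (g'.quotKerEquivRange).symm.toLinearMap
  have hν₁ : ∀ (y : H₂) (hy : g' y ∈ LinearMap.range g'), ν₁ ⟨g' y, hy⟩ = l.1 y := by
    intro y hy
    change ((LinearMap.ker g').liftQ l.1 hle) ((g'.quotKerEquivRange).symm ⟨g' y, hy⟩) = l.1 y
    rw [LinearMap.quotKerEquivRange_symm_apply_image]
    rfl
  obtain ⟨ν₂, hν₂⟩ := LinearMap.exists_extend ν₁
  have hν₂' : ∀ y : H₂, ν₂ (g y) = l.1 y := by
    intro y
    have h1 : g' y ∈ LinearMap.range g' := ⟨y, rfl⟩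
    have h2 := LinearMap.congr_fun hν₂ ⟨g' y, h1⟩
    rw [LinearMap.comp_apply, Submodule.subtype_apply] at h2
    rw [← hν₁ y h1, ← h2]
    rfl
  refine ⟨⟨ν₂ ∘ₗ projF (𝒜 := 𝒜) 𝓗₃ F, ⟨F, ?_⟩⟩, ?_⟩
  · intro j hj h hh
    rw [LinearMap.comp_apply, projF_of_not_mem 𝓗₃ F hj hh, map_zero]
  · apply GD.ext
    intro x
    change ν₂ (projF (𝒜 := 𝒜) 𝓗₃ F (g x)) = l.ev x
    rw [projF_comm g hg F x, hν₂']
    exact ev_projF 𝓗₂ l F hF x

include h0 in
/-- the dual of an injective homogeneous map is surjective -/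
theorem gdMap_surjective (g : H₂ →ₗ[R] H₃) (hg : GrLC.IsGrHom 𝓗₂ 𝓗₃ g)
    (hinj : Function.Injective g) : Function.Surjective (gdMap (𝒜 := 𝒜) g hg) := by
  intro l
  apply exists_factor h0 g hg l
  intro x hx
  have : x = 0 := hinj (by rw [hx, map_zero])
  rw [this, GD.ev_map_zero]

end Factor

end Groth.Agent.H98.GrLD
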