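import Mathlib
import Groth.Agent.H58.LCTorsion

set_option autoImplicit false
set_option linter.unusedSectionVars false
set_option linter.style.haveILetI false
universe u

/-!
# Dimension shifting for `Ext` along a presentation `0 → N → F → M → 0` with `Ext^{≥1}(F, Y) = 0`
-/

namespace Groth.Agent.H98.GrLD

open CategoryTheory Abelian Groth.Agent.H58.LC

variable {R : Type u} [CommRing R] {N F M : Type u} [AddCommGroup N]
  [Module R N] [AddCommGroup F] [Module R F] [AddCommGroup M] [Module R M]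
  (Y : Type u) [AddCommGroup Y] [Module R Y]
  (ι : N →ₗ[R] F) (π : F →ₗ[R] M) (hι : Function.Injective ι) (hπ : Function.Surjective π)
  (hex : Function.Exact ι π)

/-- `Hom(N, Y) ≃ Ext^0(N, Y)` -/
noncomputable def homExt₀ (N : Type u) [AddCommGroup N] [Module R N] :
    (N →ₗ[R] Y) ≃ₗ[R] Ext.{u} (ModuleCat.of R N) (ModuleCat.of R Y) 0 :=
  (ModuleCat.homLinearEquiv (S := R) (M := ModuleCat.of R N) (N := ModuleCat.of R Y)).symm ≪≫ₗ
    (Ext.linearEquiv₀ (R := R)).symm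

theorem homExt₀_apply (N : Type u) [AddCommGroup N] [Module R N] (φ : N →ₗ[R] Y) :
    homExt₀ Y N φ = Ext.mk₀ (ModuleCat.ofHom φ) := rfl

/-- the connecting map `Hom(N, Y) → Ext^1(M, Y)` -/
noncomputable def dE : (N →ₗ[R] Y) →ₗ[R] Ext.{u} (ModuleCat.of R M) (ModuleCat.of R Y) 1 :=
  (Ext.precompOfLinear (shortExact_of ι π hι hπ hex).extClass R (ModuleCat.of R Y)
    (rfl : 1 + 0 = 1)) ∘ₗ (homExt₀ Y N).toLinearMap

theorem dE_apply (φ : N →ₗ[R] Y) :
    dE Y ι π hι hπ hex φ =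
      (shortExact_of ι π hι hπ hex).extClass.comp (homExt₀ Y N φ) (rfl : 1 + 0 = 1) := rfl

theorem dE_surjective (hF : ∀ x : Ext.{u} (ModuleCat.of R F) (ModuleCat.of R Y) 1, x = 0) :
    Function.Surjective (dE Y ι π hι hπ hex) := by
  intro y
  obtain ⟨x₁, hx₁⟩ := Ext.contravariant_sequence_exact₃ (shortExact_of ι π hι hπ hex) _ y (hF _)
    (rfl : 1 + 0 = 1)
  refine ⟨(homExt₀ Y N).symm x₁, ?_⟩
  rw [dE_apply, LinearEquiv.apply_symm_apply]
  exact hx₁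

theorem dE_comp (ψ : F →ₗ[R] Y) : dE Y ι π hι hπ hex (ψ ∘ₗ ι) = 0 := by
  rw [dE_apply, homExt₀_apply]
  have : Ext.mk₀ (ModuleCat.ofHom (ψ ∘ₗ ι)) =
      (Ext.mk₀ (ModuleCat.ofHom ι)).comp (Ext.mk₀ (ModuleCat.ofHom ψ)) (zero_add 0) := by
    rw [Ext.mk₀_comp_mk₀]; rfl
  rw [this]
  exact (shortExact_of ι π hι hπ hex).extClass_comp_assoc _

theorem exists_of_dE_eq_zero (φ : N →ₗ[R] Y) (hφ : dE Y ι π hι hπ hex φ = 0) :
    ∃ ψ : F →ₗ[R] Y, φ = ψ ∘ₗ ι := by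
  rw [dE_apply] at hφ
  obtain ⟨x₂, hx₂⟩ := Ext.contravariant_sequence_exact₁ (shortExact_of ι π hι hπ hex) _ _
    (rfl : 1 + 0 = 1) hφ
  obtain ⟨ψ, rfl⟩ : ∃ ψ : F →ₗ[R] Y, x₂ = Ext.mk₀ (ModuleCat.ofHom ψ) :=
    ⟨(homExt₀ Y F).symm x₂, by rw [← homExt₀_apply, LinearEquiv.apply_symm_apply]⟩
  refine ⟨ψ, ?_⟩
  apply (homExt₀ Y N).injective
  rw [← hx₂, homExt₀_apply]
  exact Ext.mk₀_comp_mk₀ (ModuleCat.ofHom ι) (ModuleCat.ofHom ψ)

/-- the connecting map `Ext^j(N, Y) → Ext^{j+1}(M, Y)` -/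
noncomputable def δE (j : ℕ) : Ext.{u} (ModuleCat.of R N) (ModuleCat.of R Y) j →ₗ[R]
    Ext.{u} (ModuleCat.of R M) (ModuleCat.of R Y) (j + 1) :=
  Ext.precompOfLinear (shortExact_of ι π hι hπ hex).extClass R (ModuleCat.of R Y) (add_comm 1 j)

theorem δE_bijective (j : ℕ) (hj : 1 ≤ j)
    (hF : ∀ (i : ℕ) (x : Ext.{u} (ModuleCat.of R F) (ModuleCat.of R Y) (i + 1)), x = 0) :
    Function.Bijective (δE Y ι π hι hπ hex j) := by
  obtain ⟨j', rfl⟩ : ∃ j', j = j' + 1 := ⟨j - 1, by omega⟩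
  constructor
  · rw [injective_iff_map_eq_zero]
    intro x hx
    obtain ⟨x₂, rfl⟩ := Ext.contravariant_sequence_exact₁ (shortExact_of ι π hι hπ hex) _ x
      (add_comm 1 (j' + 1)) hx
    rw [hF j' x₂, Ext.comp_zero]
  · intro y
    obtain ⟨x₁, hx₁⟩ := Ext.contravariant_sequence_exact₃ (shortExact_of ι π hι hπ hex) _ y
      (hF (j' + 1) _) (add_comm 1 (j' + 1))
    exact ⟨x₁, hx₁⟩

/-- `Ext^{≥1}` out of a finite free module vanishes -/
theorem ext_pi_eq_zero (J : Type) [Fintype J] (Y : ModuleCat.{u} R) (j : ℕ)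
    (x : Ext.{u} (ModuleCat.of R (J → R)) Y (j + 1)) : x = 0 := by
  haveI : Projective (ModuleCat.of R (J → R)) :=
    (IsProjective.iff_projective _).mp (inferInstance : Module.Projective R (J → R))
  exact Ext.eq_zero_of_projective x

/-- functoriality of `Ext` in the second variable along a linear equivalence -/
noncomputable def extCongrRight {Y Y' : Type u} [AddCommGroup Y] [Module R Y] [AddCommGroup Y']
    [Module R Y'] (e : Y ≃ₗ[R] Y') (X : ModuleCat.{u} R) (i : ℕ) :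
    Ext.{u} X (ModuleCat.of R Y) i ≃ₗ[R] Ext.{u} X (ModuleCat.of R Y') i where
  toFun x := x.comp (Ext.mk₀ e.toModuleIso.hom) (add_zero i)
  invFun x := x.comp (Ext.mk₀ e.toModuleIso.inv) (add_zero i)
  map_add' x y := Ext.add_comp x y _ _
  map_smul' r x := Ext.smul_comp x _ _ r
  left_inv x := by
    change (x.comp (Ext.mk₀ e.toModuleIso.hom) (add_zero i)).comp
      (Ext.mk₀ e.toModuleIso.inv) (add_zero i) = x
    rw [Ext.comp_assoc_of_third_deg_zero, Ext.mk₀_comp_mk₀, Iso.hom_inv_id, Ext.comp_mk₀_id]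
  right_inv x := by
    change (x.comp (Ext.mk₀ e.toModuleIso.inv) (add_zero i)).comp
      (Ext.mk₀ e.toModuleIso.hom) (add_zero i) = x
    rw [Ext.comp_assoc_of_third_deg_zero, Ext.mk₀_comp_mk₀, Iso.inv_hom_id, Ext.comp_mk₀_id]

end Groth.Agent.H98.GrLD
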