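import Groth.Agent.H98.GrStar.Pi
import Mathlib.RingTheory.Noetherian.Basic
import Mathlib.RingTheory.Ideal.Operations

set_option autoImplicit false
set_option linter.unusedSectionVars false
set_option linter.style.haveILetI false
universe u

/-!
# Irrelevant ideals under a finite degree-preserving ring map

`R → S` degree-preserving, `S` finite over `R`, both positively graded: a power of the irrelevant
ideal of `S` lies in the extension of the irrelevant ideal of `R`.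
-/

namespace Groth.Agent.H98.GrLD

open DirectSum Groth.Agent.H98.GrStar

variable {R : Type u} [CommRing R] {𝒜 : ℤ → AddSubgroup R} [GradedRing 𝒜]
variable {S : Type u} [CommRing S] [Algebra R S] {𝒜' : ℤ → AddSubgroup S} [GradedRing 𝒜']
variable (hf : ∀ j : ℤ, (𝒜 j).map (algebraMap R S : R →+ S) ≤ 𝒜' j)
variable (m : HomogeneousIdeal 𝒜)
  (hmsp : m.toIdeal = Ideal.span (⋃ n ∈ Set.Ioi (0 : ℤ), (𝒜 n : Set R)))
  (m' : HomogeneousIdeal 𝒜')
  (hm'sp : m'.toIdeal = Ideal.span (⋃ j ∈ Set.Ioi (0 : ℤ), (𝒜' j : Set S)))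

include hf hmsp hm'sp in
theorem map_irrel_le : Ideal.map (algebraMap R S) m.toIdeal ≤ m'.toIdeal := by
  rw [hmsp, Ideal.map_span, Ideal.span_le]
  rintro _ ⟨s, hs, rfl⟩
  simp only [Set.mem_iUnion, Set.mem_Ioi, SetLike.mem_coe, exists_prop] at hs
  obtain ⟨j, hj, hs⟩ := hs
  rw [hm'sp]
  apply Ideal.subset_span
  simp only [Set.mem_iUnion, Set.mem_Ioi, SetLike.mem_coe, exists_prop]
  exact ⟨j, hj, hf j ⟨s, hs, rfl⟩⟩

include hmsp in
/-- pieces of high degree of a finite graded algebra lie in the extension of the irrelevant ideal -/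
theorem exists_bound [SetLike.GradedSMul 𝒜 𝒜'] [Module.Finite R S] :
    ∃ D : ℤ, 0 ≤ D ∧ ∀ g : ℤ, D < g → ∀ s ∈ 𝒜' g, s ∈ Ideal.map (algebraMap R S) m.toIdeal := by
  classical
  obtain ⟨J, _, d, π, hπs, hπg⟩ := exists_free_cover 𝒜 𝒜'
  letI : DirectSum.Decomposition (freeGr 𝒜 d) := (freeGr_isInternal 𝒜 d).chooseDecomposition
  refine ⟨∑ j, |d j|, Finset.sum_nonneg (fun j _ => abs_nonneg _), ?_⟩
  intro g hg s hs
  obtain ⟨v, rfl⟩ := hπs s
  have h1 := decompose_grHom (freeGr 𝒜 d) 𝒜' π hπg v g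
  rw [DirectSum.decompose_of_mem_same 𝒜' hs] at h1
  rw [h1, LinearMap.pi_apply_eq_sum_univ]
  refine Ideal.sum_mem _ (fun j _ => ?_)
  rw [Algebra.smul_def]
  apply Ideal.mul_mem_right
  apply Ideal.mem_map_of_mem
  have hw : ((DirectSum.decompose (freeGr 𝒜 d) v g : freeGr 𝒜 d g) : J → R) j ∈ 𝒜 (g - d j) :=
    (mem_freeGr 𝒜 d).1 (SetLike.coe_mem _) j
  rw [hmsp]
  apply Ideal.subset_span
  simp only [Set.mem_iUnion, Set.mem_Ioi, SetLike.mem_coe, exists_prop]
  refine ⟨g - d j, ?_, hw⟩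
  have h2 : d j ≤ ∑ j, |d j| :=
    (le_abs_self _).trans (Finset.single_le_sum (f := fun j => |d j|) (fun i _ => abs_nonneg _)
      (Finset.mem_univ j))
  omega

include hmsp hm'sp in
theorem irrel_le_radical [SetLike.GradedSMul 𝒜 𝒜'] [Module.Finite R S] :
    m'.toIdeal ≤ (Ideal.map (algebraMap R S) m.toIdeal).radical := by
  obtain ⟨D, hD0, hD⟩ := exists_bound (𝒜' := 𝒜') m hmsp
  rw [hm'sp, Ideal.span_le]
  intro x hx
  simp only [Set.mem_iUnion, Set.mem_Ioi, SetLike.mem_coe, exists_prop] at hx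
  obtain ⟨j, hj, hx⟩ := hx
  refine ⟨(D + 1).toNat, ?_⟩
  have h1 : x ^ (D + 1).toNat ∈ 𝒜' ((D + 1).toNat • j) := SetLike.pow_mem_graded _ hx
  apply hD _ _ _ h1
  rw [nsmul_eq_mul]
  have h2 : (((D + 1).toNat : ℕ) : ℤ) = D + 1 := Int.toNat_of_nonneg (by omega)
  rw [h2]
  nlinarith

include hmsp hm'sp in
/-- a power of the irrelevant ideal of `S` lies in `m S` -/
theorem exists_pow_irrel_le [SetLike.GradedSMul 𝒜 𝒜'] [Module.Finite R S] [IsNoetherianRing S] :
    ∃ N : ℕ, m'.toIdeal ^ N ≤ Ideal.map (algebraMap R S) m.toIdeal :=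
  Ideal.exists_pow_le_of_le_radical_of_fg (irrel_le_radical m hmsp m' hm'sp)
    (IsNoetherian.noetherian _)

end Groth.Agent.H98.GrLD
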