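import Groth.Agent.H98.GrLD.Restrict

set_option autoImplicit false
set_option linter.unusedSectionVars false
set_option linter.style.haveILetI false
universe u

/-!
# Graded local cohomology and restriction of scalars

`*H^p_a(M_R) ≅ *H^p_{a'}(M)` (semilinear over `R → S`, matching the gradings) when `a S ⊆ a'` and
`a'^N ⊆ a S`.
-/

namespace Groth.Agent.H98.GrLD

open DirectSum CategoryTheory Groth.Agent.H98.GrStar Groth.Agent.H98.Ver Groth.Agent.H98.LCRes

variable {R : Type u} [CommRing R] {𝒜 : ℤ → AddSubgroup R} [GradedRing 𝒜]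
variable {S : Type u} [CommRing S] [Algebra R S] {𝒜' : ℤ → AddSubgroup S} [GradedRing 𝒜']
variable (hf : ∀ j : ℤ, (𝒜 j).map (algebraMap R S : R →+ S) ≤ 𝒜' j)

section Torsion

variable (a : Ideal R) (a' : Ideal S) (X : GrLC.GMod.{u} 𝒜')

theorem mem_gam_of_restr (hpow : ∃ N : ℕ, a' ^ N ≤ Ideal.map (algebraMap R S) a) (x : X.carrier)
    (hx : x ∈ GrLC.gam a (restrGMod hf X).carrier) : x ∈ GrLC.gam a' X.carrier := by
  obtain ⟨N, hN⟩ := hpow
  obtain ⟨n, hn⟩ := hx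
  refine ⟨N * n, fun s hs => ?_⟩
  have h1 : s ∈ Ideal.map (algebraMap R S) (a ^ n) := by
    rw [Ideal.map_pow]
    rw [pow_mul] at hs
    exact Ideal.pow_right_mono hN n hs
  refine Submodule.span_induction (p := fun s _ => s • x = 0) ?_ ?_ ?_ ?_ h1
  · rintro _ ⟨c, hc, rfl⟩
    exact hn c hc
  · exact zero_smul _ _
  · intro s t _ _ hs ht
    rw [add_smul, hs, ht, add_zero]
  · intro t s _ hs
    rw [smul_eq_mul, mul_smul, hs, smul_zero]

theorem mem_gam_restr (hle : Ideal.map (algebraMap R S) a ≤ a') (x : X.carrier)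
    (hx : x ∈ GrLC.gam a' X.carrier) : x ∈ GrLC.gam a (restrGMod hf X).carrier := by
  obtain ⟨n, hn⟩ := hx
  refine ⟨n, fun c hc => ?_⟩
  change algebraMap R S c • x = 0
  apply hn
  have h1 : algebraMap R S c ∈ Ideal.map (algebraMap R S) (a ^ n) := Ideal.mem_map_of_mem _ hc
  rw [Ideal.map_pow] at h1
  exact Ideal.pow_right_mono hle n h1

end Torsion

section Main

variable [IsNoetherianRing R] [IsNoetherianRing S]
variable {M : Type u} [AddCommGroup M] [Module S M] [Module R M] [IsScalarTower R S M]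
  {ℳ : ℤ → AddSubgroup M} [DirectSum.Decomposition ℳ] [SetLike.GradedSMul 𝒜' ℳ]
  [SetLike.GradedSMul 𝒜 ℳ]
variable (E : GrLC.StarInjRes 𝒜' ℳ)
variable (a : HomogeneousIdeal 𝒜) (a' : HomogeneousIdeal 𝒜')
  (hle : Ideal.map (algebraMap R S) a.toIdeal ≤ a'.toIdeal)
  (hpow : ∃ N : ℕ, a'.toIdeal ^ N ≤ Ideal.map (algebraMap R S) a.toIdeal)

/-- the underlying element of a cocycle of the restricted resolution -/
def cocycVal (p : ℕ) (z : ↥((restrRes hf E a).toAcycRes.cocyc p)) : (E.X p).carrier := z.1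

include hpow in
theorem cocycVal_mem (p : ℕ) (z : ↥((restrRes hf E a).toAcycRes.cocyc p)) :
    cocycVal hf E a p z ∈ E.cocyc a' p :=
  ⟨mem_gam_of_restr hf a.toIdeal a'.toIdeal (E.X p) hpow _ z.2.1, z.2.2⟩

/-- the comparison map on cocycles -/
noncomputable def cocycMap (p : ℕ) :
    ↥((restrRes hf E a).toAcycRes.cocyc p) →ₛₗ[algebraMap R S] E.H a' p where
  toFun z := E.toH a' p ⟨_, cocycVal_mem hf E a a' hpow p z⟩
  map_add' x y := by
    rw [← map_add]
    rfl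
  map_smul' c x := by
    rw [← map_smul]
    rfl

include hpow in
theorem cocycMap_ker_le (p : ℕ) :
    (((restrRes hf E a).toAcycRes.cobdy p).comap ((restrRes hf E a).toAcycRes.cocyc p).subtype) ≤
      LinearMap.ker (cocycMap hf E a a' hpow p) := by
  intro z hz
  change E.toH a' p ⟨_, cocycVal_mem hf E a a' hpow p z⟩ = 0
  rw [Submodule.mkQ_apply, Submodule.Quotient.mk_eq_zero]
  change cocycVal hf E a p z ∈ E.cobdy a' p
  cases p with
  | zero =>
    have h0 : (z : (restrRes hf E a).toAcycRes.X 0) = 0 := (Submodule.mem_bot R).1 hz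
    have h1 : cocycVal hf E a 0 z = 0 := h0
    rw [h1]
    exact Submodule.zero_mem _
  | succ k =>
    obtain ⟨w, hw, hwz⟩ := hz
    exact ⟨w, mem_gam_of_restr hf a.toIdeal a'.toIdeal (E.X k) hpow w hw, hwz⟩

/-- the comparison map `H^p(Γ_a(E_R)) → *H^p_{a'}(M)` -/
noncomputable def Ψ (p : ℕ) : (restrRes hf E a).H p →ₛₗ[algebraMap R S] E.H a' p :=
  Submodule.liftQ _ (cocycMap hf E a a' hpow p) (cocycMap_ker_le hf E a a' hpow p)

include hpow in
theorem Ψ_toH (p : ℕ) (z : ↥((restrRes hf E a).toAcycRes.cocyc p)) :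
    Ψ hf E a a' hpow p ((restrRes hf E a).toAcycRes.toH p z) =
      E.toH a' p ⟨_, cocycVal_mem hf E a a' hpow p z⟩ := rfl

include hle hpow in
theorem Ψ_injective (p : ℕ) : Function.Injective (Ψ hf E a a' hpow p) := by
  rw [← LinearMap.ker_eq_bot, LinearMap.ker_eq_bot']
  intro x hx
  obtain ⟨z, rfl⟩ := (restrRes hf E a).toAcycRes.toH_surjective p x
  rw [Ψ_toH, Submodule.mkQ_apply, Submodule.Quotient.mk_eq_zero] at hx
  have hx' : cocycVal hf E a p z ∈ E.cobdy a' p := hx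
  rw [Submodule.mkQ_apply, Submodule.Quotient.mk_eq_zero]
  change cocycVal hf E a p z ∈ (restrRes hf E a).toAcycRes.cobdy p
  cases p with
  | zero =>
    have h1 : cocycVal hf E a 0 z = 0 := (Submodule.mem_bot S).1 hx'
    rw [h1]
    exact Submodule.zero_mem _
  | succ k =>
    obtain ⟨w, hw, hwz⟩ := hx'
    exact ⟨w, mem_gam_restr hf a.toIdeal a'.toIdeal (E.X k) hle w hw, hwz⟩

include hle hpow in
theorem exists_Ψ_eq (p : ℕ) (j : ℤ) (y : E.H a' p) (hy : y ∈ E.Hgr a' p j) :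
    ∃ x ∈ (restrRes hf E a).Hgr p j, Ψ hf E a a' hpow p x = y := by
  obtain ⟨w, hw, rfl⟩ := hy
  let w' : (restrRes hf E a).toAcycRes.X p := (w : (E.X p).carrier)
  have hwc : w' ∈ (restrRes hf E a).toAcycRes.cocyc p :=
    ⟨mem_gam_restr hf a.toIdeal a'.toIdeal (E.X p) hle w w.2.1, w.2.2⟩
  exact ⟨(restrRes hf E a).toAcycRes.toH p ⟨w', hwc⟩, ⟨⟨w', hwc⟩, hw, rfl⟩, rfl⟩

include hle hpow in
theorem Ψ_surjective (p : ℕ) : Function.Surjective (Ψ hf E a a' hpow p) := by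
  intro y
  obtain ⟨w, rfl⟩ := Submodule.mkQ_surjective _ y
  let w' : (restrRes hf E a).toAcycRes.X p := (w : (E.X p).carrier)
  have hwc : w' ∈ (restrRes hf E a).toAcycRes.cocyc p :=
    ⟨mem_gam_restr hf a.toIdeal a'.toIdeal (E.X p) hle w w.2.1, w.2.2⟩
  exact ⟨(restrRes hf E a).toAcycRes.toH p ⟨w', hwc⟩, rfl⟩

include hpow in
theorem Ψ_mem (p : ℕ) (j : ℤ) (x : (restrRes hf E a).H p)
    (hx : x ∈ (restrRes hf E a).Hgr p j) : Ψ hf E a a' hpow p x ∈ E.Hgr a' p j := by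
  obtain ⟨z, hz, rfl⟩ := hx
  exact ⟨⟨_, cocycVal_mem hf E a a' hpow p z⟩, hz, rfl⟩

include hle hpow in
theorem Ψ_mem_iff (p : ℕ) (j : ℤ) (x : (restrRes hf E a).H p) :
    x ∈ (restrRes hf E a).Hgr p j ↔ Ψ hf E a a' hpow p x ∈ E.Hgr a' p j := by
  constructor
  · exact Ψ_mem hf E a a' hpow p j x
  · intro hx
    obtain ⟨x', hx', hxx'⟩ := exists_Ψ_eq hf E a a' hle hpow p j _ hx
    rw [← Ψ_injective hf E a a' hle hpow p hxx']
    exact hx'

include hf hle hpow in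
/-- **Base independence of graded local cohomology**: `*H^p_a(M_R) ≅ *H^p_{a'}(M)`. -/
theorem exists_restr_equiv (F : GrLC.StarInjRes 𝒜 ℳ) (p : ℕ) :
    ∃ Θ : F.H a p →ₛₗ[algebraMap R S] E.H a' p, Function.Bijective Θ ∧
      ∀ (j : ℤ) (x : F.H a p), x ∈ F.Hgr a p j ↔ Θ x ∈ E.Hgr a' p j := by
  obtain ⟨e, he⟩ := (restrRes hf E a).exists_equiv F p
  refine ⟨(Ψ hf E a a' hpow p).comp (e.symm : F.H a p →ₗ[R] _), ⟨?_, ?_⟩, ?_⟩
  · exact (Ψ_injective hf E a a' hle hpow p).comp e.symm.injective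
  · exact (Ψ_surjective hf E a a' hle hpow p).comp e.symm.surjective
  · intro j x
    change x ∈ F.Hgr a p j ↔ Ψ hf E a a' hpow p (e.symm x) ∈ E.Hgr a' p j
    rw [← Ψ_mem_iff hf E a a' hle hpow p j (e.symm x), he j (e.symm x), LinearEquiv.apply_symm_apply]

end Main

end Groth.Agent.H98.GrLD
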