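import Groth.Agent.H98.Ver.MPair

set_option autoImplicit false
set_option linter.unusedSectionVars false
set_option linter.style.haveILetI false
universe u

/-!
# Transfer of a graded Matlis pairing along a ring map that is bijective in degree zero
-/

namespace Groth.Agent.H98.GrLD

open DirectSum Groth.Agent.H98.Ver

variable {R : Type u} [CommRing R] {𝒜 : ℤ → AddSubgroup R} [GradedRing 𝒜]
variable {S : Type u} [CommRing S] [Algebra R S] {𝒜' : ℤ → AddSubgroup S} [GradedRing 𝒜']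
variable (hf0 : (𝒜 0).map (algebraMap R S : R →+ S) = 𝒜' 0)
  (hinj0 : ∀ a ∈ 𝒜 0, algebraMap R S a = 0 → a = 0)
variable {H : Type u} [AddCommGroup H] [Module R H] (𝓗 : ℤ → AddSubgroup H)
variable {H' : Type u} [AddCommGroup H'] [Module S H'] (𝓗' : ℤ → AddSubgroup H')
variable {C : Type u} [AddCommGroup C] [Module S C] [Module R C] [IsScalarTower R S C]
  (𝒞 : ℤ → AddSubgroup C)
variable (Θ : H →ₛₗ[algebraMap R S] H') (hΘ : Function.Bijective Θ)
  (hΘgr : ∀ (j : ℤ) (x : H), x ∈ 𝓗 j ↔ Θ x ∈ 𝓗' j)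
variable (P' : H' →+ C →+ S) (hP' : MPair 𝒜' 𝓗' 𝒞 P')

include hf0 hinj0 hΘ hΘgr hP' in
/-- a graded Matlis pairing over `S` gives one over `R` when `R_0 ≅ S_0` -/
theorem exists_mpair_restr : ∃ P : H →+ C →+ R, MPair 𝒜 𝓗 𝒞 P := by
  have hex : ∀ (h : H) (c : C), ∃ a : R, a ∈ 𝒜 0 ∧ algebraMap R S a = P' (Θ h) c := by
    intro h c
    have h1 : P' (Θ h) c ∈ 𝒜' 0 := hP'.val0 _ _
    rw [← hf0] at h1
    obtain ⟨a, ha, hae⟩ := h1
    exact ⟨a, ha, hae⟩
  choose p hp0 hp using hex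
  have huniq : ∀ a b : R, a ∈ 𝒜 0 → b ∈ 𝒜 0 → algebraMap R S a = algebraMap R S b → a = b := by
    intro a b ha hb hab
    have h1 : a - b = 0 := hinj0 _ (sub_mem ha hb) (by rw [map_sub, hab, sub_self])
    exact sub_eq_zero.1 h1
  have hzero : ∀ a : R, a ∈ 𝒜 0 → algebraMap R S a = 0 → a = 0 := hinj0
  have haddc : ∀ h c c', p h (c + c') = p h c + p h c' := by
    intro h c c'
    apply huniq _ _ (hp0 _ _) (add_mem (hp0 _ _) (hp0 _ _))
    rw [map_add, hp, hp, hp, map_add]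
  have haddh : ∀ h h' c, p (h + h') c = p h c + p h' c := by
    intro h h' c
    apply huniq _ _ (hp0 _ _) (add_mem (hp0 _ _) (hp0 _ _))
    rw [map_add, hp, hp, hp, map_add, map_add, AddMonoidHom.add_apply]
  let P : H →+ C →+ R := AddMonoidHom.mk' (fun h => AddMonoidHom.mk' (p h) (haddc h))
    (fun h h' => AddMonoidHom.ext (fun c => haddh h h' c))
  have hPp : ∀ h c, P h c = p h c := fun _ _ => rfl
  refine ⟨P, ?_⟩
  refine
    { val0 := fun h c => hp0 h c
      bal := ?_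
      lin0 := ?_
      deg := ?_
      nondegH := ?_
      nondegC := ?_ }
  · intro r h c
    rw [hPp, hPp]
    apply huniq _ _ (hp0 _ _) (hp0 _ _)
    rw [hp, hp, map_smulₛₗ, hP'.bal, algebraMap_smul]
  · intro a ha h c
    rw [hPp, hPp]
    apply huniq _ _ (hp0 _ _)
    · have := SetLike.GradedMul.mul_mem (A := 𝒜) ha (hp0 h c)
      rwa [zero_add] at this
    · have ha' : algebraMap R S a ∈ 𝒜' 0 := by
        rw [← hf0]
        exact ⟨a, ha, rfl⟩
      rw [hp, map_mul, hp, map_smulₛₗ, hP'.lin0 _ ha']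
  · intro i j hij h hh c hc
    rw [hPp]
    apply hzero _ (hp0 _ _)
    rw [hp]
    exact hP'.deg i j hij _ ((hΘgr i h).1 hh) c hc
  · intro j h hh hall
    apply hΘ.1
    rw [map_zero]
    apply hP'.nondegH j _ ((hΘgr (-j) h).1 hh)
    intro c hc
    rw [← hp, ← hPp, hall c hc, map_zero]
  · intro j c hc hall
    apply hP'.nondegC j c hc
    intro h' hh'
    obtain ⟨h, rfl⟩ := hΘ.2 h'
    rw [← hp, ← hPp, hall h ((hΘgr (-j) h).2 hh'), map_zero]

end Groth.Agent.H98.GrLD
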