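import Groth.Agent.H98.GrLD.Main
import Groth.Agent.H98.GrLD.RestrCompare
import Groth.Agent.H98.GrLD.Irrel
import Groth.Agent.H98.GrLD.Transfer
import Groth.Agent.H98.Ver.CanonPair
import Groth.Agent.H98.GrHt.StarLocalDim
import Groth.Agent.H85.GrLCBase
import Groth.Agent.H81.CanonPieces
import Groth.Agent.H81.TopTensor
import Groth.Agent.H54.Dim

set_option autoImplicit false
set_option linter.unusedSectionVars false
set_option linter.style.haveILetI false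
universe u

/-!
# `K_S ≅ Ext^{dim R - dim S}_R(S, K_R)` for a finite degree-preserving map of graded rings over a field
-/

namespace Groth.Agent.H98.GrLD

open DirectSum CategoryTheory Abelian Groth.Agent.H98.GrStar Groth.Agent.H98.Ver

attribute [local instance] HDec HSMul

section One

variable {R : Type u} [CommRing R] [IsNoetherianRing R] (𝒜 : ℤ → AddSubgroup R) [GradedRing 𝒜]
  (hpos : ∀ n : ℤ, n < 0 → 𝒜 n = ⊥) (h0 : IsField (GrLC.deg0 𝒜))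
  (m : HomogeneousIdeal 𝒜) (hm : GrLC.IsStarLocal 𝒜 m)
  (hmsp : m.toIdeal = Ideal.span (⋃ n ∈ Set.Ioi (0 : ℤ), (𝒜 n : Set R)))
  (n : ℕ) (I : GrLC.StarInjRes 𝒜 𝒜)
variable {E' : Type u} [AddCommGroup E'] [Module R E'] (𝓔 : ℤ → AddSubgroup E')
  [DirectSum.Decomposition 𝓔] [SetLike.GradedSMul 𝒜 𝓔]
  (e : (R ⧸ m.toIdeal) →ₗ[R] E') (he : GrLC.IsStarInjHull 𝒜 (GrLC.quotGr 𝒜 m) 𝓔 e)
variable {C : Type u} [AddCommGroup C] [Module R C] (𝒞 : ℤ → AddSubgroup C)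
  [DirectSum.Decomposition 𝒞] [SetLike.GradedSMul 𝒜 𝒞]

include hpos h0 hm hmsp he in
/-- the *canonical module is the graded dual of the top local cohomology -/
theorem nonempty_canon_equiv_gd (hC : GrLC.IsStarCanonical 𝒜 𝒞 𝓔 m n I) :
    Nonempty (C ≃ₗ[R] GD 𝒜 (I.Hgr m n)) := by
  obtain ⟨hfin, Φ, hΦ⟩ := hC
  haveI := hfin
  obtain ⟨P, hP⟩ := exists_mpair 𝒜 hpos h0 hm hmsp 𝓔 e he 𝒞 (I.Hgr m n) Φ hΦ
  exact ⟨gdEquiv hP h0 (fun j => Groth.Agent.H81.CanonPieces.finite_comp 𝒜 hpos h0 𝒞 j)⟩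

end One

section Two

/-- **`K_S ≅ Ext^t_R(S, K_R)`**, `t = dim R - dim S` -/
theorem canon_equiv_ext (R : Type u) [CommRing R] [LocCoh.IsCohenMacaulayRing R] (𝒜 : ℤ → AddSubgroup R) [GradedRing 𝒜] (hpos : ∀ n : ℤ, n < 0 → 𝒜 n = ⊥) (h0 : IsField (GrLC.deg0 𝒜)) (m : HomogeneousIdeal 𝒜) (hm : GrLC.IsStarLocal 𝒜 m) (hmsp : m.toIdeal = Ideal.span (⋃ n ∈ Set.Ioi (0 : ℤ), (𝒜 n : Set R))) (n : ℕ) (hn : ringKrullDim R = n) (I : GrLC.StarInjRes 𝒜 𝒜) (E' : Type u) [AddCommGroup E'] [Module R E'] (𝓔 : ℤ → AddSubgroup E') [DirectSum.Decomposition 𝓔] [SetLike.GradedSMul 𝒜 𝓔] (e : (R ⧸ m.toIdeal) →ₗ[R] E') (he : GrLC.IsStarInjHull 𝒜 (GrLC.quotGr 𝒜 m) 𝓔 e) (C : Type u) [AddCommGroup C] [Module R C] (𝒞 : ℤ → AddSubgroup C) [DirectSum.Decomposition 𝒞] [SetLike.GradedSMul 𝒜 𝒞] (hC : GrLC.IsStarCanonical 𝒜 𝒞 𝓔 m n I) (S : Type u) [CommRing S] [IsNoetherianRing S] [Algebra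 R S] [Module.Finite R S] (𝒜' : ℤ → AddSubgroup S) [GradedRing 𝒜'] (hf : ∀ j : ℤ, (𝒜 j).map (algebraMap R S : R →+ S) ≤ 𝒜' j) (hf0 : (𝒜 0).map (algebraMap R S : R →+ S) = 𝒜' 0) (hpos' : ∀ j : ℤ, j < 0 → 𝒜' j = ⊥) (h0' : IsField (GrLC.deg0 𝒜')) (m' : HomogeneousIdeal 𝒜') (hm' : GrLC.IsStarLocal 𝒜' m') (hm'sp : m'.toIdeal = Ideal.span (⋃ j ∈ Set.Ioi (0 : ℤ), (𝒜' j : Set S))) (n' : ℕ) (hn' : ringKrullDim S = n') (I' : GrLC.StarInjRes 𝒜' 𝒜') (E'' : Type u) [AddCommGroup E''] [Module S E''] (𝓔'' : ℤ → AddSubgroup E'') [DirectSum.Decomposition 𝓔''] [SetLike.GradedSMul 𝒜' 𝓔''] (e' : (S ⧸ m'.toIdeal) →ₗ[S] E'') (he' : GrLC.IsStarInjHull 𝒜' (GrLC.quotGr 𝒜' m') 𝓔'' e') (C' : Type u) [AddCommGroup C'] [Module S C'] [Module R C'] [IsScalarTower R S C'] (𝒞' : ℤ → AddSubgroup C') [DirectSum.Decomposition 𝒞'] [SetLike.GradedSMul 𝒜' 𝒞'] (hC' : GrLC.IsStarCanonical 𝒜' 𝒞' 𝓔''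 m' n' I') : Nonempty (C' ≃ₗ[R] CategoryTheory.Abelian.Ext.{u} (ModuleCat.of R S) (ModuleCat.of R C) (n - n')) := by
  classical
  haveI hmax : m.toIdeal.IsMaximal := Groth.Agent.H98.GrHt.isMaximal_of_isStarLocal 𝒜 hpos hm
  -- vanishing
  have hvan : ∀ i, i < n → Subsingleton (I.H m i) := fun i hi =>
    Groth.Agent.H85.GrLCBase.subsingleton_H_of_cm 𝒜 m hm n hn I i hi
  have hcd : ∀ (N : Type u) [AddCommGroup N] [Module R N] [Module.Finite R N],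
      Subsingleton (LocCoh.H m.toIdeal (n + 1) N) := fun N _ _ _ =>
    Groth.Agent.H81.TopTensor.subsingleton_succ_of_dim_le (I := m.toIdeal) (n := n) (le_of_eq hn) N
  -- graded structures over `R`
  haveI hgs : SetLike.GradedSMul 𝒜 𝒜' := ⟨by
    intro i j r s hr hs
    rw [Algebra.smul_def]
    exact SetLike.GradedMul.mul_mem (A := 𝒜') (hf_mem hf hr) hs⟩
  haveI hgc : SetLike.GradedSMul 𝒜 𝒞' := ⟨by
    intro i j r c hr hc
    rw [← algebraMap_smul S r c]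
    exact SetLike.GradedSMul.smul_mem (A := 𝒜') (B := 𝒞') (hf_mem hf hr) hc⟩
  obtain ⟨hfinC', Φ', hΦ'⟩ := hC'
  haveI := hfinC'
  haveI : Module.Finite R C' := Module.Finite.trans S C'
  -- dimensions
  have hnn : n' ≤ n := by
    haveI : Algebra.IsIntegral R S := inferInstance
    have h1 : ringKrullDim S ≤ ringKrullDim R := Groth.Agent.H54.ringKrullDim_le_of_isIntegral
    rw [hn, hn'] at h1
    exact_mod_cast h1
  -- nontriviality and injectivity in degree zero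
  have hS : (1 : S) ≠ 0 := by
    obtain ⟨x, y, hxy⟩ := h0'.exists_pair_ne
    intro h10
    apply hxy
    apply Subtype.ext
    rw [← mul_one (x : S), ← mul_one (y : S), h10, mul_zero, mul_zero]
  have hinj0 : ∀ a ∈ 𝒜 0, algebraMap R S a = 0 → a = 0 := by
    intro a ha haz
    by_contra hne
    have hne' : (⟨a, ha⟩ : GrLC.deg0 𝒜) ≠ 0 := fun h => hne (congrArg Subtype.val h)
    obtain ⟨b, hb⟩ := h0.mul_inv_cancel hne'
    have h1 : a * (b : R) = 1 := congrArg Subtype.val hb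
    apply hS
    rw [← map_one (algebraMap R S), ← h1, map_mul, haz, zero_mul]
  -- base independence
  let ES : GrLC.StarInjRes 𝒜 𝒜' := res 𝒜 𝒜'
  have hle := map_irrel_le hf m hmsp m' hm'sp
  have hpow := exists_pow_irrel_le m hmsp m' hm'sp
  obtain ⟨Θ, hΘ, hΘgr⟩ := exists_restr_equiv hf I' m m' hle hpow ES n'
  -- the pairings
  obtain ⟨P', hP'⟩ := exists_mpair 𝒜' hpos' h0' hm' hm'sp 𝓔'' e' he' 𝒞' (I'.Hgr m' n') Φ' hΦ'
  obtain ⟨P, hP⟩ := exists_mpair_restr hf0 hinj0 (ES.Hgr m n') (I'.Hgr m' n') 𝒞' Θ hΘ hΘgr P' hP'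
  have e1 : C' ≃ₗ[R] GD 𝒜 (ES.Hgr m n') :=
    gdEquiv hP h0 (fun j => Groth.Agent.H81.CanonPieces.finite_comp 𝒜 hpos h0 𝒞' j)
  obtain ⟨e2⟩ := nonempty_gd_equiv_ext h0 m n I hvan hcd (n - n') n' (by omega) S 𝒜' ES
  obtain ⟨e3⟩ := nonempty_canon_equiv_gd 𝒜 hpos h0 m hm hmsp n I 𝓔 e he 𝒞 hC
  exact ⟨e1 ≪≫ₗ e2 ≪≫ₗ extCongrRight e3.symm (ModuleCat.of R S) (n - n')⟩

end Two

end Groth.Agent.H98.GrLD
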