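import Groth.Agent.H98.GrLD.Exact
import Groth.Agent.H98.GrStar.HomComp

set_option autoImplicit false
set_option linter.unusedSectionVars false
set_option linter.style.haveILetI false
universe u

/-!
# `GD(M ⊗ H) ≅ Hom_R(M, GD(H))`

Abstract form: `μ : M → Hom_R(HR, HM)` homogeneous and inducing a bijection `M ⊗_R HR → HM`, with `M`
finitely generated graded.  Then `eps : GD(HM) → Hom_R(M, GD(HR))`, `l ↦ (x ↦ l ∘ μ x)`, is an
isomorphism of `R`-modules.
-/

namespace Groth.Agent.H98.GrLD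

open DirectSum TensorProduct Groth.Agent.H98.GrStar

variable {R : Type u} [CommRing R] {𝒜 : ℤ → AddSubgroup R} [GradedRing 𝒜]
variable {HR : Type u} [AddCommGroup HR] [Module R HR] {ℋ : ℤ → AddSubgroup HR}
  [DirectSum.Decomposition ℋ] [SetLike.GradedSMul 𝒜 ℋ]
variable {HM : Type u} [AddCommGroup HM] [Module R HM] {ℋM : ℤ → AddSubgroup HM}
  [DirectSum.Decomposition ℋM] [SetLike.GradedSMul 𝒜 ℋM]
variable {M : Type u} [AddCommGroup M] [Module R M] {ℳ : ℤ → AddSubgroup M}
  [DirectSum.Decomposition ℳ] [SetLike.GradedSMul 𝒜 ℳ]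
variable (μ : M →ₗ[R] (HR →ₗ[R] HM))
  (hμ : ∀ (g₀ : ℤ) (x : M), x ∈ ℳ g₀ → ∀ (b : ℤ) (z : HR), z ∈ ℋ b → μ x z ∈ ℋM (b + g₀))

include hμ in
theorem epsFun_mem (l : GD 𝒜 ℋM) (x : M) :
    l.1 ∘ₗ res0 (𝒜 := 𝒜) (μ x) ∈ gdSub 𝒜 ℋ := by
  classical
  obtain ⟨F, hF⟩ := l.2
  refine ⟨(F ×ˢ (DirectSum.decompose ℳ x).support).image (fun p => p.1 - p.2), ?_⟩
  intro j hj z hz
  rw [LinearMap.comp_apply, res0_apply]
  have hx : μ x z = ∑ a ∈ (DirectSum.decompose ℳ x).support,
      μ ((DirectSum.decompose ℳ x a : ℳ a) : M) z := by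
    conv_lhs => rw [← DirectSum.sum_support_decompose ℳ x]
    rw [map_sum, LinearMap.sum_apply]
  rw [hx, map_sum]
  apply Finset.sum_eq_zero
  intro a ha
  apply hF (j + a)
  · intro hmem
    apply hj
    refine Finset.mem_image.mpr ⟨(j + a, a), Finset.mem_product.mpr ⟨hmem, ha⟩, ?_⟩
    change j + a - a = j
    ring
  · exact hμ a _ (SetLike.coe_mem _) j z hz

/-- the comparison map `GD(HM) → Hom_R(M, GD(HR))` -/
noncomputable def eps : GD 𝒜 ℋM →ₗ[R] (M →ₗ[R] GD 𝒜 ℋ) where
  toFun l :=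
    { toFun := fun x => ⟨l.1 ∘ₗ res0 (𝒜 := 𝒜) (μ x), epsFun_mem μ hμ l x⟩
      map_add' := fun x y => GD.ext fun z => by
        change l.ev (μ (x + y) z) = l.ev (μ x z) + l.ev (μ y z)
        rw [map_add, LinearMap.add_apply, GD.ev_map_add]
      map_smul' := fun r x => GD.ext fun z => by
        change l.ev (μ (r • x) z) = l.ev (μ x (r • z))
        rw [map_smul, LinearMap.smul_apply, map_smul] }
  map_add' l l' := LinearMap.ext fun x => GD.ext fun z => rfl
  map_smul' r l := LinearMap.ext fun x => GD.ext fun z => by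
    change l.ev (r • μ x z) = l.ev (μ x (r • z))
    rw [map_smul]

@[simp] theorem eps_ev (l : GD 𝒜 ℋM) (x : M) (z : HR) :
    (eps μ hμ l x).ev z = l.ev (μ x z) := rfl

variable (hbij : Function.Bijective (TensorProduct.lift μ))

include hbij in
theorem eps_injective : Function.Injective (eps (𝒜 := 𝒜) μ hμ) := by
  rw [injective_iff_map_eq_zero]
  intro l hl
  apply GD.ext
  intro y
  rw [GD.ev_zero]
  obtain ⟨t, rfl⟩ := hbij.2 y
  induction t using TensorProduct.induction_on with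
  | zero => rw [map_zero, GD.ev_map_zero]
  | tmul x z =>
    rw [TensorProduct.lift.tmul]
    have := congrArg (fun φ : M →ₗ[R] GD 𝒜 ℋ => (φ x).ev z) hl
    exact this
  | add a b ha hb => rw [map_add, GD.ev_map_add, ha, hb, add_zero]

/-- every tensor is a combination of the generators -/
theorem exists_tmul_sum (T : Finset (ℤ × M))
    (hT : Submodule.span R ((fun t : ℤ × M => t.2) '' (T : Set (ℤ × M))) = ⊤)
    (w : M ⊗[R] HR) : ∃ z : ℤ × M → HR, w = ∑ t ∈ T, t.2 ⊗ₜ[R] z t := by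
  classical
  induction w using TensorProduct.induction_on with
  | zero => exact ⟨0, by simp⟩
  | tmul m h =>
    have hm : m ∈ Submodule.span R ((fun t : ℤ × M => t.2) '' (T : Set (ℤ × M))) := by
      rw [hT]; trivial
    rw [Submodule.mem_span_image_iff_exists_fun] at hm
    obtain ⟨S, hS, c, rfl⟩ := hm
    have hST : S ⊆ T := by
      intro t ht
      exact Finset.mem_coe.mp (hS (Finset.mem_coe.mpr ht))
    refine ⟨fun t => if ht : t ∈ S then c ⟨t, ht⟩ • h else 0, ?_⟩
    rw [TensorProduct.sum_tmul, ← Finset.sum_subset hST]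
    · rw [← Finset.sum_attach S]
      refine Finset.sum_congr rfl fun t _ => ?_
      dsimp only
      rw [dif_pos t.2, TensorProduct.smul_tmul]
    · intro t _ htS
      dsimp only
      rw [dif_neg htS, TensorProduct.tmul_zero]
  | add a b ha hb =>
    obtain ⟨z, rfl⟩ := ha
    obtain ⟨z', rfl⟩ := hb
    refine ⟨z + z', ?_⟩
    rw [← Finset.sum_add_distrib]
    exact Finset.sum_congr rfl fun t _ => (TensorProduct.tmul_add _ _ _).symm

include hbij hμ in
theorem eps_surjective [Module.Finite R M] : Function.Surjective (eps (𝒜 := 𝒜) μ hμ) := by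
  classical
  intro φ
  obtain ⟨T, hTdeg, hTspan⟩ := exists_homogeneous_generators (R := R) ℳ
  let Φ : (M ⊗[R] HR) ≃ₗ[R] HM := LinearEquiv.ofBijective (TensorProduct.lift μ) hbij
  -- the functional on the tensor product
  let lam₀ : M ⊗[R] HR →+ GrLC.deg0 𝒜 :=
    TensorProduct.liftAddHom
      (AddMonoidHom.mk' (fun x => AddMonoidHom.mk' (fun z => (φ x).ev z)
          (fun z z' => GD.ev_map_add _ z z'))
        (fun x y => by
          apply AddMonoidHom.ext
          intro z
          change (φ (x + y)).ev z = (φ x).ev z + (φ y).ev z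
          rw [map_add, GD.ev_add]))
      (fun r x z => by
        change (φ (r • x)).ev z = (φ x).ev (r • z)
        rw [map_smul, GD.ev_smul])
  have hlam₀ : ∀ x z, lam₀ (x ⊗ₜ[R] z) = (φ x).ev z := fun _ _ => rfl
  have hlam₀smul : ∀ (a : GrLC.deg0 𝒜) (t : M ⊗[R] HR), lam₀ ((a : R) • t) = a * lam₀ t := by
    intro a t
    induction t using TensorProduct.induction_on with
    | zero => rw [smul_zero, map_zero, mul_zero]
    | tmul x z =>
      rw [TensorProduct.smul_tmul', TensorProduct.smul_tmul, hlam₀, hlam₀]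
      exact GD.ev_map_smul (φ x) a z
    | add t t' ht ht' => rw [smul_add, map_add, ht, ht', map_add, mul_add]
  let l₀ : HM →ₗ[GrLC.deg0 𝒜] GrLC.deg0 𝒜 :=
    { toFun := fun y => lam₀ (Φ.symm y)
      map_add' := fun y y' => by rw [map_add, map_add]
      map_smul' := fun a y => by
        have : Φ.symm (a • y) = (a : R) • Φ.symm y := by
          change Φ.symm ((a : R) • y) = _
          rw [map_smul]
        rw [this, hlam₀smul]
        rfl }
  have hl₀ : ∀ y, l₀ y = lam₀ (Φ.symm y) := fun _ => rfl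
  -- supports of the values of `φ` on the generators
  have hsupp := fun t : ℤ × M => (φ t.2).exists_support
  choose Fs hFs using hsupp
  have hmem : l₀ ∈ gdSub 𝒜 ℋM := by
    refine ⟨T.biUnion (fun t => (Fs t).image (fun f => f + t.1)), ?_⟩
    intro j hj y hy
    obtain ⟨z, hz⟩ := exists_tmul_sum T hTspan (Φ.symm y)
    -- the component of degree `j`
    have hy1 : y = ∑ t ∈ T, μ t.2 (z t) := by
      have := congrArg Φ hz
      rw [LinearEquiv.apply_symm_apply, map_sum] at this
      rw [this]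
      exact Finset.sum_congr rfl fun t _ => rfl
    have hy2 : y = ∑ t ∈ T, μ t.2 ((DirectSum.decompose ℋ (z t) (j - t.1) : ℋ (j - t.1)) : HR) := by
      have h1 : ((DirectSum.decompose ℋM y j : ℋM j) : HM) = y :=
        DirectSum.decompose_of_mem_same ℋM hy
      rw [← h1]
      conv_lhs => rw [hy1]
      rw [DirectSum.decompose_sum, DFinsupp.finsetSum_apply, AddSubgroup.val_finsetSum]
      refine Finset.sum_congr rfl fun t ht => ?_
      have h2 := decompose_map_shift ℋ ℋM (μ t.2).toAddMonoidHom t.1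
        (fun i w hw => by
          have := hμ t.1 t.2 (hTdeg t ht) i w hw
          rwa [add_comm] at this) (z t) (j - t.1)
      rw [add_sub_cancel] at h2
      exact h2
    have hsymm : Φ.symm y = ∑ t ∈ T, t.2 ⊗ₜ[R]
        ((DirectSum.decompose ℋ (z t) (j - t.1) : ℋ (j - t.1)) : HR) := by
      rw [LinearEquiv.symm_apply_eq, map_sum]
      conv_lhs => rw [hy2]
      exact Finset.sum_congr rfl fun t _ => rfl
    rw [hl₀, hsymm, map_sum]
    apply Finset.sum_eq_zero
    intro t ht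
    rw [hlam₀]
    apply hFs t (j - t.1) _ _ (SetLike.coe_mem _)
    intro hmemF
    apply hj
    refine Finset.mem_biUnion.mpr ⟨t, ht, Finset.mem_image.mpr ⟨j - t.1, hmemF, ?_⟩⟩
    ring
  refine ⟨⟨l₀, hmem⟩, ?_⟩
  apply LinearMap.ext
  intro x
  apply GD.ext
  intro z
  change l₀ (μ x z) = (φ x).ev z
  rw [hl₀]
  have : Φ.symm (μ x z) = x ⊗ₜ[R] z := by
    rw [LinearEquiv.symm_apply_eq]
    rfl
  rw [this, hlam₀]

/-- **`GD(HM) ≅ Hom_R(M, GD(HR))`** -/
noncomputable def epsEquiv [Module.Finite R M] : GD 𝒜 ℋM ≃ₗ[R] (M →ₗ[R] GD 𝒜 ℋ) :=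
  LinearEquiv.ofBijective (eps (𝒜 := 𝒜) μ hμ)
    ⟨eps_injective μ hμ hbij, eps_surjective μ hμ hbij⟩

theorem epsEquiv_apply [Module.Finite R M] (l : GD 𝒜 ℋM) :
    epsEquiv (𝒜 := 𝒜) μ hμ hbij l = eps μ hμ l := rfl

end Groth.Agent.H98.GrLD
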