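import Groth.Agent.H98.GrLD.Level0
import Groth.Agent.H98.GrLD.Canon
import Groth.Agent.H98.GrLD.ExtSide
import Groth.Agent.H98.GrStar.GrLES2
import Groth.Agent.H98.GrStar.HighVanish
import Groth.Agent.H98.GrStar.SubQuot
import Groth.Agent.H81.GrTopTensor

set_option autoImplicit false
set_option linter.unusedSectionVars false
set_option linter.style.haveILetI false
universe u

/-!
# Graded local duality over a graded ring with `R_0` a field

`R` Noetherian ℤ-graded with `R_0` a field, `m` a homogeneous ideal, `n` with `*H^i_m(R) = 0` for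
`i < n` and `H^{n+1}_m = 0` on finitely generated modules; `K = GD(*H^n_m(R))` the graded dual of the
top local cohomology.  Then `GD(*H^i_m(M)) ≅ Ext^j_R(M, K)` for `i + j = n` and every finitely generated
graded module `M`.
-/

namespace Groth.Agent.H98.GrLD

open DirectSum CategoryTheory Abelian Groth.Agent.H98.GrStar Groth.Agent.H81.GrTopTensor
  Groth.Agent.H81.TopTensor

section Inst

variable {R : Type u} [CommRing R] {𝒜 : ℤ → AddSubgroup R} [GradedRing 𝒜]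

theorem gradedSMul_of {H : Type u} [AddCommGroup H] [Module R H] (𝓗 : ℤ → AddSubgroup H)
    (h : ∀ (d j : ℤ) (r : R) (z : H), r ∈ 𝒜 d → z ∈ 𝓗 j → r • z ∈ 𝓗 (d + j)) :
    SetLike.GradedSMul 𝒜 𝓗 :=
  ⟨fun {d j r z} hr hz => by
    rw [vadd_eq_add]
    exact h d j r z hr hz⟩

variable [IsNoetherianRing R]
variable {M : Type u} [AddCommGroup M] [Module R M] {ℳ : ℤ → AddSubgroup M}
  [DirectSum.Decomposition ℳ] [SetLike.GradedSMul 𝒜 ℳ]

/-- the decomposition of graded local cohomology -/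
@[reducible] noncomputable def HDec (E : GrLC.StarInjRes 𝒜 ℳ) (a : HomogeneousIdeal 𝒜) (i : ℕ) :=
  (Hgr_isInternal 𝒜 ℳ E a i).chooseDecomposition

/-- graded scalar multiplication on graded local cohomology -/
@[reducible] def HSMul (E : GrLC.StarInjRes 𝒜 ℳ) (a : HomogeneousIdeal 𝒜) (i : ℕ) :=
  gradedSMul_of (𝒜 := 𝒜) (E.Hgr a i) (fun d j r z hr hz => smul_mem_Hgr E a hr i z hz)

end Inst

attribute [local instance] HDec HSMul

section Level0

variable {R : Type u} [CommRing R] [IsNoetherianRing R] {𝒜 : ℤ → AddSubgroup R} [GradedRing 𝒜]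
  (m : HomogeneousIdeal 𝒜) (n : ℕ) (I : GrLC.StarInjRes 𝒜 𝒜)
  (hcd : ∀ (N : Type u) [AddCommGroup N] [Module R N] [Module.Finite R N],
    Subsingleton (LocCoh.H m.toIdeal (n + 1) N))
variable {M : Type u} [AddCommGroup M] [Module R M] {ℳ : ℤ → AddSubgroup M}
  [DirectSum.Decomposition ℳ] [SetLike.GradedSMul 𝒜 ℳ]
variable {N : Type u} [AddCommGroup N] [Module R N] {𝒩 : ℤ → AddSubgroup N}
  [DirectSum.Decomposition 𝒩] [SetLike.GradedSMul 𝒜 𝒩]

theorem θ_eq_lcEquiv (E : GrLC.StarInjRes 𝒜 ℳ) (a : HomogeneousIdeal 𝒜) (i : ℕ) :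
    θ E a i = lcEquiv E a i := by
  cases i <;> rfl

/-- naturality of `grMu` -/
theorem Hmap_grMu (u : N →ₗ[R] M) (EN : GrLC.StarInjRes 𝒜 𝒩) (EM : GrLC.StarInjRes 𝒜 ℳ)
    (i : ℕ) (y : N) (z : I.H m i) :
    Hmap m u EN EM i (grMu I EN m i y z) = grMu I EM m i (u y) z := by
  rw [grMu_apply, grMu_apply, Hmap_apply, θ_eq_lcEquiv, θ_eq_lcEquiv, LinearEquiv.apply_symm_apply]
  congr 1
  exact Hmap_mu m.toIdeal i u y (lcEquiv I m i z)

theorem grMu_hom (EM : GrLC.StarInjRes 𝒜 ℳ) (i : ℕ) :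
    ∀ (g₀ : ℤ) (x : M), x ∈ ℳ g₀ → ∀ (b : ℤ) (z : I.H m i), z ∈ I.Hgr m i b →
      grMu I EM m i x z ∈ EM.Hgr m i (b + g₀) :=
  fun g₀ x hx b z hz => grMu_mem (ℛ := 𝒜) (fun _ _ h => h) I EM m i hx b z hz

/-- the level-zero isomorphism `GD(*H^n_m(M)) ≅ Hom_R(M, K)` -/
noncomputable def e₀ (EM : GrLC.StarInjRes 𝒜 ℳ) [Module.Finite R M] :
    GD 𝒜 (EM.Hgr m n) ≃ₗ[R] (M →ₗ[R] GD 𝒜 (I.Hgr m n)) :=
  epsEquiv (𝒜 := 𝒜) (grMu I EM m n) (grMu_hom m I EM n) (lift_grMu_bijective I EM m n hcd)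

theorem e₀_ev (EM : GrLC.StarInjRes 𝒜 ℳ) [Module.Finite R M] (l : GD 𝒜 (EM.Hgr m n)) (x : M)
    (z : I.H m n) : (e₀ m n I hcd EM l x).ev z = l.ev (grMu I EM m n x z) := rfl

/-- naturality of `e₀` -/
theorem e₀_natural (u : N →ₗ[R] M) (hu : GrLC.IsGrHom 𝒩 ℳ u) (EN : GrLC.StarInjRes 𝒜 𝒩)
    (EM : GrLC.StarInjRes 𝒜 ℳ) [Module.Finite R M] [Module.Finite R N]
    (l : GD 𝒜 (EM.Hgr m n)) :
    e₀ m n I hcd EN (gdMap (Hmap m u EN EM n) (Hmap_isGrHom m u hu EN EM n) l) =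
      (e₀ m n I hcd EM l) ∘ₗ u := by
  apply LinearMap.ext
  intro y
  apply GD.ext
  intro z
  rw [e₀_ev, gdMap_ev, Hmap_grMu, LinearMap.comp_apply, e₀_ev]

end Level0

section FreeVanish

variable {R : Type u} [CommRing R] [IsNoetherianRing R] (I₀ : Ideal R) (i : ℕ)

/-- local cohomology of a finite free module vanishes where that of the ring does -/
theorem subsingleton_H_pi (J : Type) [Fintype J] (h : Subsingleton (LocCoh.H I₀ i R)) :
    Subsingleton (LocCoh.H I₀ i (J → R)) := by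
  classical
  refine ⟨fun x y => ?_⟩
  have key : ∀ z : LocCoh.H I₀ i (J → R), z = 0 := by
    intro z
    have hid : (LinearMap.id : (J → R) →ₗ[R] (J → R)) =
        ∑ j : J, (LinearMap.single R (fun _ : J => R) j) ∘ₗ (LinearMap.proj j) := by
      apply LinearMap.ext
      intro v
      funext j₀
      simp [LinearMap.sum_apply, Pi.single_apply]
    have h1 : z = Groth.Agent.H81.TopTensor.Hmap I₀ i (LinearMap.id : (J → R) →ₗ[R] (J → R)) z := by
      rw [Groth.Agent.H81.TopTensor.Hmap_id]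
      rfl
    rw [h1, hid, Groth.Agent.H81.TopTensor.Hmap_sum, LinearMap.sum_apply]
    apply Finset.sum_eq_zero
    intro j _
    rw [Groth.Agent.H81.TopTensor.Hmap_comp_apply,
      Subsingleton.elim (Groth.Agent.H81.TopTensor.Hmap I₀ i
        (LinearMap.proj j : (J → R) →ₗ[R] R) z) 0, map_zero]
  rw [key x, key y]

end FreeVanish

section Algebra

variable {R : Type u} [CommRing R] {X X' Z Z' : Type u} [AddCommGroup X] [Module R X]
  [AddCommGroup X'] [Module R X'] [AddCommGroup Z] [Module R Z] [AddCommGroup Z'] [Module R Z']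

/-- quotients by corresponding kernels are isomorphic -/
theorem nonempty_equiv_of_surjective (b : X →ₗ[R] Z) (hb : Function.Surjective b)
    (b' : X' →ₗ[R] Z') (hb' : Function.Surjective b') (e : X ≃ₗ[R] X')
    (h : ∀ x, b x = 0 ↔ b' (e x) = 0) : Nonempty (Z ≃ₗ[R] Z') := by
  have hmap : (LinearMap.ker b).map (e : X →ₗ[R] X') = LinearMap.ker b' := by
    ext y
    constructor
    · rintro ⟨x, hx, rfl⟩
      exact (h x).1 hx
    · intro hy
      refine ⟨e.symm y, ?_, e.apply_symm_apply y⟩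
      rw [SetLike.mem_coe, LinearMap.mem_ker, h, e.apply_symm_apply]
      exact hy
  exact ⟨(b.quotKerEquivOfSurjective hb).symm ≪≫ₗ
    Submodule.Quotient.equiv (LinearMap.ker b) (LinearMap.ker b') e hmap ≪≫ₗ
    b'.quotKerEquivOfSurjective hb'⟩

end Algebra

section Duality

variable {R : Type u} [CommRing R] [IsNoetherianRing R] {𝒜 : ℤ → AddSubgroup R} [GradedRing 𝒜]
  (h0 : IsField (GrLC.deg0 𝒜)) (m : HomogeneousIdeal 𝒜) (n : ℕ) (I : GrLC.StarInjRes 𝒜 𝒜)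
  (hvan : ∀ i, i < n → Subsingleton (I.H m i))
  (hcd : ∀ (N : Type u) [AddCommGroup N] [Module R N] [Module.Finite R N],
    Subsingleton (LocCoh.H m.toIdeal (n + 1) N))

include hvan in
/-- graded local cohomology of a graded free module vanishes below `n` -/
theorem subsingleton_H_free {J : Type} [Fintype J] (d : J → ℤ)
    (EF : GrLC.StarInjRes 𝒜 (freeGMod 𝒜 d).gr) (i : ℕ) (hi : i < n) :
    Subsingleton (EF.H m i) := by
  haveI := hvan i hi
  have h1 : Subsingleton (LocCoh.H m.toIdeal i R) := (θ I m i).symm.toEquiv.subsingleton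
  have h2 : Subsingleton (LocCoh.H m.toIdeal i (freeGMod 𝒜 d).carrier) :=
    subsingleton_H_pi m.toIdeal i J h1
  exact (θ EF m i).toEquiv.subsingleton

variable {M : Type u} [AddCommGroup M] [Module R M] {ℳ : ℤ → AddSubgroup M}
  [DirectSum.Decomposition ℳ] [SetLike.GradedSMul 𝒜 ℳ]

/-- the graded presentation of a finitely generated graded module -/
theorem exists_grSES [Module.Finite R M] :
    ∃ (J : Type) (_ : Fintype J) (d : J → ℤ) (Ng : GrLC.GMod.{u} 𝒜)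
      (_ : Module.Finite R Ng.carrier) (T : GrSES (R := R) Ng.gr (freeGMod 𝒜 d).gr ℳ), True := by
  classical
  obtain ⟨J, _, d, π₀, hπs, hπg⟩ := exists_free_cover 𝒜 ℳ
  let π : (freeGMod 𝒜 d).carrier →ₗ[R] M := π₀
  have hπg' : GrLC.IsGrHom (freeGMod 𝒜 d).gr ℳ π := hπg
  have hrange : (LinearMap.range (LinearMap.ker π).subtype).IsHomogeneous (freeGMod 𝒜 d).gr := by
    rw [Submodule.range_subtype]
    exact ker_isHomogeneous (freeGMod 𝒜 d).gr ℳ π hπg'
  haveI : Module.Finite R (freeGMod 𝒜 d).carrier := (inferInstance : Module.Finite R (J → R))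
  haveI : IsNoetherian R (freeGMod 𝒜 d).carrier := inferInstance
  have hfin : Module.Finite R ↥(LinearMap.ker π) := inferInstance
  exact ⟨J, inferInstance, d, subGMod 𝒜 (freeGMod 𝒜 d).gr (LinearMap.ker π).subtype
    (Submodule.injective_subtype _) hrange, hfin,
    { u := (LinearMap.ker π).subtype
      v := π
      u_gr := subGMod_isGrHom 𝒜 (freeGMod 𝒜 d).gr (LinearMap.ker π).subtype
        (Submodule.injective_subtype _) hrange
      v_gr := hπg'
      inj := Submodule.injective_subtype _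
      surj := hπs
      exact := LinearMap.exact_subtype_ker_map π }, trivial⟩

include h0 hvan hcd in
/-- level one -/
theorem dual_one (k : ℕ) (hk : k + 1 = n) [Module.Finite R M] (EM : GrLC.StarInjRes 𝒜 ℳ) :
    Nonempty (GD 𝒜 (EM.Hgr m k) ≃ₗ[R]
      Ext.{u} (ModuleCat.of R M) (ModuleCat.of R (GD 𝒜 (I.Hgr m n))) 1) := by
  classical
  subst hk
  obtain ⟨J, _, d, Ng, hNfin, T, -⟩ := exists_grSES (𝒜 := 𝒜) (ℳ := ℳ)
  haveI := hNfin
  haveI : Module.Finite R (freeGMod 𝒜 d).carrier := (inferInstance : Module.Finite R (J → R))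
  let EN : GrLC.StarInjRes 𝒜 Ng.gr := res 𝒜 Ng.gr
  let EF : GrLC.StarInjRes 𝒜 (freeGMod 𝒜 d).gr := res 𝒜 (freeGMod 𝒜 d).gr
  haveI hFk : Subsingleton (EF.H m k) := subsingleton_H_free m (k + 1) I hvan d EF k (by omega)
  have hδgr := T.Hδ_isGrHom m EN EM k
  have hδinj : Function.Injective (T.Hδ m EN EM k) := by
    rw [injective_iff_map_eq_zero]
    intro x hx
    obtain ⟨y, rfl⟩ := T.exact_right m EN EF EM k x hx
    rw [Subsingleton.elim y 0, map_zero]
  have hugr := Hmap_isGrHom m T.u T.u_gr EN EF (k + 1)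
  let b : GD 𝒜 (EN.Hgr m (k + 1)) →ₗ[R] GD 𝒜 (EM.Hgr m k) := gdMap (T.Hδ m EN EM k) hδgr
  have hb : Function.Surjective b := gdMap_surjective h0 (T.Hδ m EN EM k) hδgr hδinj
  have hbker : ∀ l, b l = 0 ↔ ∃ l', gdMap (Hmap m T.u EN EF (k + 1)) hugr l' = l := by
    intro l
    constructor
    · intro hl
      apply exists_factor h0 (Hmap m T.u EN EF (k + 1)) hugr l
      intro x hx
      obtain ⟨y, rfl⟩ := T.exact_left m EN EF EM k x hx
      have := congrArg (fun l'' : GD 𝒜 (EM.Hgr m k) => l''.ev y) hl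
      exact this
    · rintro ⟨l', rfl⟩
      apply GD.ext
      intro x
      change l'.ev (Hmap m T.u EN EF (k + 1) (T.Hδ m EN EM k x)) = 0
      rw [T.Hmap_u_Hδ, GD.ev_map_zero]
  let e := e₀ m (k + 1) I hcd EN
  let eF := e₀ m (k + 1) I hcd EF
  have hF1 : ∀ x : Ext.{u} (ModuleCat.of R (freeGMod 𝒜 d).carrier)
      (ModuleCat.of R (GD 𝒜 (I.Hgr m (k + 1)))) 1, x = 0 :=
    fun x => ext_pi_eq_zero J _ 0 x
  refine nonempty_equiv_of_surjective b hb
    (dE (GD 𝒜 (I.Hgr m (k + 1))) T.u T.v T.inj T.surj T.exact)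
    (dE_surjective _ T.u T.v T.inj T.surj T.exact hF1) e ?_
  intro l
  rw [hbker]
  constructor
  · rintro ⟨l', rfl⟩
    have hnat := e₀_natural m (k + 1) I hcd T.u T.u_gr EN EF l'
    change dE _ T.u T.v T.inj T.surj T.exact (e₀ m (k + 1) I hcd EN _) = 0
    rw [hnat]
    exact dE_comp _ T.u T.v T.inj T.surj T.exact _
  · intro hl
    obtain ⟨ψ, hψ⟩ := exists_of_dE_eq_zero _ T.u T.v T.inj T.surj T.exact (e l) hl
    refine ⟨eF.symm ψ, ?_⟩
    apply e.injective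
    have hnat := e₀_natural m (k + 1) I hcd T.u T.u_gr EN EF (eF.symm ψ)
    have h2 : e₀ m (k + 1) I hcd EF (eF.symm ψ) = ψ := eF.apply_symm_apply ψ
    exact (hnat.trans (congrArg (fun φ => φ ∘ₗ T.u) h2)).trans hψ.symm

include h0 hvan in
/-- dimension shifting -/
theorem dual_shift (i j : ℕ) (hj : 1 ≤ j) (hlt : i + 1 < n)
    (ih : ∀ (N : Type u) [AddCommGroup N] [Module R N] [Module.Finite R N]
      (𝒩 : ℤ → AddSubgroup N) [DirectSum.Decomposition 𝒩] [SetLike.GradedSMul 𝒜 𝒩]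
      (EN : GrLC.StarInjRes 𝒜 𝒩), Nonempty (GD 𝒜 (EN.Hgr m (i + 1)) ≃ₗ[R]
        Ext.{u} (ModuleCat.of R N) (ModuleCat.of R (GD 𝒜 (I.Hgr m n))) j))
    [Module.Finite R M] (EM : GrLC.StarInjRes 𝒜 ℳ) :
    Nonempty (GD 𝒜 (EM.Hgr m i) ≃ₗ[R]
      Ext.{u} (ModuleCat.of R M) (ModuleCat.of R (GD 𝒜 (I.Hgr m n))) (j + 1)) := by
  classical
  obtain ⟨J, _, d, Ng, hNfin, T, -⟩ := exists_grSES (𝒜 := 𝒜) (ℳ := ℳ)
  haveI := hNfin
  let EN : GrLC.StarInjRes 𝒜 Ng.gr := res 𝒜 Ng.gr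
  let EF : GrLC.StarInjRes 𝒜 (freeGMod 𝒜 d).gr := res 𝒜 (freeGMod 𝒜 d).gr
  haveI hF1 : Subsingleton (EF.H m i) := subsingleton_H_free m n I hvan d EF i (by omega)
  haveI hF2 : Subsingleton (EF.H m (i + 1)) := subsingleton_H_free m n I hvan d EF (i + 1) hlt
  have hδgr := T.Hδ_isGrHom m EN EM i
  have hδinj : Function.Injective (T.Hδ m EN EM i) := by
    rw [injective_iff_map_eq_zero]
    intro x hx
    obtain ⟨y, rfl⟩ := T.exact_right m EN EF EM i x hx
    rw [Subsingleton.elim y 0, map_zero]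
  have hδsurj : Function.Surjective (T.Hδ m EN EM i) := by
    intro y
    exact T.exact_left m EN EF EM i y (Subsingleton.elim _ _)
  let e₁ : GD 𝒜 (EN.Hgr m (i + 1)) ≃ₗ[R] GD 𝒜 (EM.Hgr m i) :=
    LinearEquiv.ofBijective (gdMap (T.Hδ m EN EM i) hδgr)
      ⟨gdMap_injective _ hδgr hδsurj, gdMap_surjective h0 _ hδgr hδinj⟩
  obtain ⟨e₂⟩ := ih Ng.carrier Ng.gr EN
  have hFext : ∀ (i' : ℕ) (x : Ext.{u} (ModuleCat.of R (freeGMod 𝒜 d).carrier)
      (ModuleCat.of R (GD 𝒜 (I.Hgr m n))) (i' + 1)), x = 0 :=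
    fun i' x => ext_pi_eq_zero J _ i' x
  let e₃ := LinearEquiv.ofBijective (δE (GD 𝒜 (I.Hgr m n)) T.u T.v T.inj T.surj T.exact j)
    (δE_bijective _ T.u T.v T.inj T.surj T.exact j hj hFext)
  exact ⟨e₁.symm ≪≫ₗ e₂ ≪≫ₗ e₃⟩

include h0 hvan hcd in
/-- **Graded local duality**: `GD(*H^i_m(M)) ≅ Ext^j_R(M, K)` for `i + j = n`, `K = GD(*H^n_m(R))`. -/
theorem nonempty_gd_equiv_ext : ∀ (j i : ℕ), i + j = n →
    ∀ (M : Type u) [AddCommGroup M] [Module R M] [Module.Finite R M]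
      (ℳ : ℤ → AddSubgroup M) [DirectSum.Decomposition ℳ] [SetLike.GradedSMul 𝒜 ℳ]
      (EM : GrLC.StarInjRes 𝒜 ℳ), Nonempty (GD 𝒜 (EM.Hgr m i) ≃ₗ[R]
        Ext.{u} (ModuleCat.of R M) (ModuleCat.of R (GD 𝒜 (I.Hgr m n))) j) := by
  intro j
  induction j with
  | zero =>
    intro i hi M _ _ _ ℳ _ _ EM
    obtain rfl : i = n := by omega
    exact ⟨e₀ m i I hcd EM ≪≫ₗ homExt₀ (GD 𝒜 (I.Hgr m i)) M⟩
  | succ j ih =>
    intro i hi M _ _ _ ℳ _ _ EM
    rcases Nat.eq_zero_or_pos j with hj0 | hpos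
    · subst hj0
      exact dual_one h0 m n I hvan hcd i (by omega) EM
    · exact dual_shift h0 m n I hvan i j hpos (by omega)
        (fun N _ _ _ 𝒩 _ _ EN => ih (i + 1) (by omega) N 𝒩 EN) EM

end Duality

end Groth.Agent.H98.GrLD
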