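import Groth.Agent.H98.Ver.GrRes
import Groth.Agent.H98.GrStar.LCAcyc
import Groth.Agent.H58.LCIndep2

set_option autoImplicit false
set_option linter.unusedSectionVars false
set_option linter.style.haveILetI false
universe u

/-!
# Restriction of scalars along a degree-preserving ring map and graded local cohomology

`R → S` a degree-preserving map of ℤ-graded Noetherian rings, `M` a graded `S`-module.  A *injective
resolution of `M` over `S`, viewed over `R`, is a graded `Γ_a`-acyclic resolution of `M` over `R`;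
if `a S` and `a'` have the same radical, then `*H^p_a(M_R) ≅ *H^p_{a'}(M)` compatibly with the gradings.
-/

namespace Groth.Agent.H98.GrLD

open DirectSum CategoryTheory Groth.Agent.H98.GrStar Groth.Agent.H98.Ver Groth.Agent.H98.LCRes

variable {R : Type u} [CommRing R] {𝒜 : ℤ → AddSubgroup R} [GradedRing 𝒜]
variable {S : Type u} [CommRing S] [Algebra R S] {𝒜' : ℤ → AddSubgroup S} [GradedRing 𝒜']
variable (hf : ∀ j : ℤ, (𝒜 j).map (algebraMap R S : R →+ S) ≤ 𝒜' j)

section Basic

include hf in
theorem hf_mem {j : ℤ} {r : R} (hr : r ∈ 𝒜 j) : algebraMap R S r ∈ 𝒜' j :=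
  hf j ⟨r, hr, rfl⟩

/-- restriction of scalars of a bundled graded module -/
def restrGMod (X : GrLC.GMod.{u} 𝒜') : GrLC.GMod.{u} 𝒜 :=
  letI : Module R X.carrier := Module.compHom X.carrier (algebraMap R S)
  haveI : SetLike.GradedSMul 𝒜 X.gr := ⟨by
    intro d j r x hr hx
    have h := SetLike.GradedSMul.smul_mem (A := 𝒜') (B := X.gr) (hf_mem hf hr) hx
    exact h⟩
  { carrier := X.carrier, gr := X.gr }

/-- restriction of scalars of a linear map -/
def restrMap {X Y : GrLC.GMod.{u} 𝒜'} (f : X.carrier →ₗ[S] Y.carrier) :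
    (restrGMod hf X).carrier →ₗ[R] (restrGMod hf Y).carrier where
  toFun := f
  map_add' := f.map_add
  map_smul' r x := f.map_smul (algebraMap R S r) x

include hf in
/-- the extension of a homogeneous ideal is homogeneous -/
theorem map_isHomogeneous (a : HomogeneousIdeal 𝒜) :
    (Ideal.map (algebraMap R S) a.toIdeal).IsHomogeneous 𝒜' := by
  obtain ⟨T, hT⟩ := (Ideal.IsHomogeneous.iff_exists (𝒜 := 𝒜) (I := a.toIdeal)).1 a.isHomogeneous
  rw [hT, Ideal.map_span]
  apply Ideal.homogeneous_span
  rintro _ ⟨_, ⟨s, _, rfl⟩, rfl⟩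
  obtain ⟨j, hj⟩ := s.2
  exact ⟨j, hf_mem hf hj⟩

/-- the extension of a homogeneous ideal, as a homogeneous ideal -/
def mapHom (a : HomogeneousIdeal 𝒜) : HomogeneousIdeal 𝒜' :=
  ⟨Ideal.map (algebraMap R S) a.toIdeal, map_isHomogeneous hf a⟩

/-- **Acyclicity**: a *injective `S`-module is `Γ_a`-acyclic over `R` -/
theorem restr_acyclic [IsNoetherianRing R] [IsNoetherianRing S] (X : GrLC.GMod.{u} 𝒜')
    (hX : GrLC.IsStarInj 𝒜' X.gr) (a : HomogeneousIdeal 𝒜) (j : ℕ) :
    Subsingleton (LocCoh.H a.toIdeal (j + 1) (restrGMod hf X).carrier) := by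
  letI : Module R X.carrier := Module.compHom X.carrier (algebraMap R S)
  haveI : IsScalarTower R S X.carrier := ⟨fun c r x => by
    change (c • r) • x = algebraMap R S c • (r • x)
    rw [Algebra.smul_def, mul_smul]⟩
  have h2 : Subsingleton (LocCoh.H (Ideal.map (algebraMap R S) a.toIdeal) (j + 1) X.carrier) :=
    locCoh_subsingleton_of_isStarInj 𝒜' X.gr (mapHom hf a) hX (j + 1) (by omega)
  obtain ⟨ψ, _⟩ := Groth.Agent.H58.LC.indepProp (R := R) (R' := S) a.toIdeal (j + 1) X.carrier
  exact ψ.symm.toEquiv.subsingleton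

end Basic

section Res

variable {M : Type u} [AddCommGroup M] [Module S M] [Module R M] [IsScalarTower R S M]
  {ℳ : ℤ → AddSubgroup M} [DirectSum.Decomposition ℳ] [SetLike.GradedSMul 𝒜' ℳ]
  [SetLike.GradedSMul 𝒜 ℳ]
variable (E : GrLC.StarInjRes 𝒜' ℳ)

/-- the augmentation over `R` -/
def restrε : M →ₗ[R] (restrGMod hf (E.X 0)).carrier where
  toFun := E.ε
  map_add' := E.ε.map_add
  map_smul' r x := by
    change E.ε (r • x) = algebraMap R S r • E.ε x
    rw [← map_smul, algebraMap_smul]

/-- a *injective resolution over `S`, viewed over `R`: a graded `Γ_a`-acyclic resolution -/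
noncomputable def restrRes [IsNoetherianRing R] [IsNoetherianRing S] (a : HomogeneousIdeal 𝒜) : GrAcycRes 𝒜 ℳ a where
  X n := restrGMod hf (E.X n)
  d n := restrMap hf (E.d n)
  ε := restrε hf E
  d_grHom n := E.d_grHom n
  ε_grHom := E.ε_grHom
  ε_injective := E.ε_injective
  exact_zero := by
    ext y
    constructor
    · intro hy
      have h1 : y ∈ LinearMap.ker (E.d 0) := hy
      rw [E.exact_zero] at h1
      obtain ⟨x, hx⟩ := h1
      exact ⟨x, hx⟩
    · rintro ⟨x, rfl⟩
      have h1 : E.ε x ∈ LinearMap.ker (E.d 0) := by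
        rw [E.exact_zero]; exact ⟨x, rfl⟩
      exact h1
  exact_succ n := by
    ext y
    constructor
    · intro hy
      have h1 : y ∈ LinearMap.ker (E.d (n + 1)) := hy
      rw [E.exact_succ n] at h1
      obtain ⟨x, hx⟩ := h1
      exact ⟨x, hx⟩
    · rintro ⟨x, rfl⟩
      have h1 : E.d n x ∈ LinearMap.ker (E.d (n + 1)) := by
        rw [E.exact_succ n]; exact ⟨x, rfl⟩
      exact h1
  acyclic n j := restr_acyclic hf (E.X n) (E.starInj n) a j

end Res

end Groth.Agent.H98.GrLD
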